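import Mathlib
import Cfsg.Agent.Lib.SylInt.Herzog
import Cfsg.Agent.Lib.Frob.Quaternion
import Cfsg.Agent.Lib.LocStr.RankOne
import Cfsg.Agent.Lib.Transfer.Thompson
import Cfsg.Agent.Lib.ZStar.Main
import Cfsg.Agent.Lib.FrobCompl.Struct
import Cfsg.Agent.Lib.Invol.BaerSuzuki
import Cfsg.Agent.Lib.CIT.AppSC

/-! Sylow 2-intersections of rank at most one: quasisimple groups. -/

set_option autoImplicit false
set_option linter.unusedSectionVars false

namespace CfsgLib.SylInt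

open Subgroup Cfsg CfsgLib.PComp CfsgLib.Abel2 CfsgLib.Tech CfsgLib.Gold CfsgLib.Comp CfsgLib.Gold.Cor
open scoped commutatorElement MatrixGroups

universe u

section two

variable {G : Type*} [Group G] [Finite G] {P : Subgroup G}

theorem conj_sq {g x : G} (h : x * x = 1) : g * x * g⁻¹ * (g * x * g⁻¹) = 1 := by
  rw [show g * x * g⁻¹ * (g * x * g⁻¹) = g * (x * x) * g⁻¹ by group, h, mul_one, mul_inv_cancel]

theorem eq_of_not_four (hP : IsPGroup 2 P) (h : ¬ Four P) {a b : G} (ha : a ∈ P) (hb : b ∈ P)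
    (a2 : a * a = 1) (b2 : b * b = 1) (a1 : a ≠ 1) (b1 : b ≠ 1) : a = b := by
  obtain ⟨z, hz, h2, h3⟩ := exists_mem_center_of_normalized hP le_rfl le_normalizer
    fun e => a1 (mem_bot.mp (e ▸ ha))
  have key : ∀ c ∈ P, c * c = 1 → c ≠ 1 → c = z := fun c hc c2 c1 => by_contra fun hne =>
    h ⟨c, hc, z, hz, c2, mul_self_of_orderOf_two h2, h3 c hc, c1, ne_one_of_orderOf_two h2, hne⟩
  exact (key a ha a2 a1).trans (key b hb b2 b1).symm

theorem mem_zpowers_of_not_four (hP : IsPGroup 2 P) (h : ¬ Four P) (x y : P) (hx : orderOf x = 2)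
    (hy : orderOf y = 2) : y ∈ zpowers x :=
  Subtype.ext (eq_of_not_four hP h x.2 y.2 (congrArg Subtype.val (mul_self_of_orderOf_two hx))
    (congrArg Subtype.val (mul_self_of_orderOf_two hy))
    (fun e => ne_one_of_orderOf_two hx (Subtype.ext e))
    fun e => ne_one_of_orderOf_two hy (Subtype.ext e)) ▸ mem_zpowers x

theorem quat_of_not_four (hP : IsPGroup 2 P) (h : ¬ Four P) (hc : ¬ IsCyclic P) :
    ∃ n : ℕ, Nonempty (P ≃* QuaternionGroup (2 ^ (n + 1))) := by
  obtain ⟨-, n, hn, e⟩ := (Frob.cyclic_or_quaternion_of_forall_mem_zpowers hP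
    (mem_zpowers_of_not_four hP h)).resolve_left hc
  obtain ⟨k, rfl⟩ := Nat.exists_eq_add_of_le' hn
  exact ⟨k, e⟩

theorem Four.not_isCyclic (h : Four P) : ¬ IsCyclic P := fun hc => by
  obtain ⟨a, ha, b, hb, h1, h2, -, h4, h5, h6⟩ := h
  exact h6 (Transfer.eq_of_orderOf_eq_two_of_isCyclic hc ha hb (orderOf_two_of_mul_self h1 h4)
    (orderOf_two_of_mul_self h2 h5))

theorem four_of_comm (hP : IsPGroup 2 P) (hc : IsMulCommutative P) (h : ¬ IsCyclic P) : Four P :=
  by_contra fun h4 => h (Frob.isCyclic_of_comm_of_forall_mem_zpowers hc fun p hp x y hx hy => by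
    obtain ⟨k, hk⟩ := hP x
    obtain rfl : p = 2 := (Nat.prime_dvd_prime_iff_eq hp Nat.prime_two).mp
      (hp.dvd_of_dvd_pow (hx ▸ orderOf_dvd_of_pow_eq_one hk))
    exact mem_zpowers_of_not_four hP h4 x y hx hy)

theorem relIndex_zpowers_coe (a : P) : (zpowers (a : G)).relIndex P = (zpowers a).index := by
  rw [relIndex]
  congr 1
  rw [← map_subtype_inj, MonoidHom.map_zpowers, subgroupOf_map_subtype, inf_eq_left.mpr (zpowers_le.mpr a.2)]
  rfl

/-- generators of a quaternion group -/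
structure QG (P : Subgroup G) (a b : G) : Prop where
  ha : a ∈ P
  hb : b ∈ P
  sq : a * a ≠ 1
  sq2 : b * b ≠ 1
  four : b * b * (b * b) = 1
  mem : b * b ∈ zpowers a
  inv : b * a * b⁻¹ = a⁻¹
  idx : (zpowers a).relIndex P = 2
  all : ∀ g ∈ P, ∃ i : ℤ, g = a ^ i ∨ g = a ^ i * b

theorem exists_qg (hP : IsPGroup 2 P) (h : ¬ Four P) (hc : ¬ IsCyclic P) : ∃ a b, QG P a b := by
  obtain ⟨-, a, b, m, h1, h2, h3, h4, h5, h6⟩ := (Frob.exists_gens_of_forall_mem_zpowers hP
    (mem_zpowers_of_not_four hP h)).resolve_left hc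
  obtain ⟨k, rfl⟩ := Nat.exists_eq_add_of_le' h4
  have h7 : b * b = a ^ 2 ^ (k + 1) := by rw [← pow_two, h5]; rfl
  have h8 : ∀ j, a ^ j = 1 → 2 ^ (k + 2) ∣ j := fun j hj => h2 ▸ orderOf_dvd_of_pow_eq_one hj
  refine ⟨a, b, a.2, b.2, fun e => ?_, fun e => ?_, ?_, ?_, congrArg Subtype.val h6, ?_, fun g hg => ?_⟩
  · have := Nat.le_of_dvd two_pos (h8 2 (Subtype.ext (by simpa [pow_two] using e)))
    have := Nat.one_le_two_pow (n := k)
    rw [pow_add] at *
    omega
  · exact absurd (Nat.le_of_dvd (by positivity) (h8 _ (h7.symm.trans (Subtype.ext e))))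
      (Nat.pow_lt_pow_right one_lt_two (by omega)).not_ge
  · have : b * b * (b * b) = 1 := by rw [h7, ← pow_add, ← two_mul, ← pow_succ', ← h2, pow_orderOf_eq_one]
    exact congrArg Subtype.val this
  · rw [show (b : G) * b = a ^ 2 ^ (k + 1) from congrArg Subtype.val h7]
    exact pow_mem (mem_zpowers _) _
  · exact (relIndex_zpowers_coe a).trans h1
  · obtain ⟨i, hi⟩ := Frob.exists_eq_zpow_or_of_index_two h1 h3 ⟨g, hg⟩
    exact ⟨i, hi.imp (fun e => by simpa using congrArg Subtype.val e) fun e => by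
      simpa using congrArg Subtype.val e⟩

theorem QG.inv' {a b : G} (h : QG P a b) (i : ℤ) : b * a ^ i * b⁻¹ = (a ^ i)⁻¹ := by
  rw [← conj_zpow, h.inv, inv_zpow]

theorem QG.sq_out {a b : G} (h : QG P a b) (i : ℤ) : a ^ i * b * (a ^ i * b) = b * b := by
  rw [show a ^ i * b * (a ^ i * b) = a ^ i * (b * a ^ i * b⁻¹) * (b * b) by group, h.inv', mul_inv_cancel,
    one_mul]

theorem QG.inv_out {a b : G} (h : QG P a b) (i : ℤ) : a ^ i * b * a * (a ^ i * b)⁻¹ = a⁻¹ := by
  rw [show a ^ i * b * a * (a ^ i * b)⁻¹ = a ^ i * (b * a * b⁻¹) * (a ^ i)⁻¹ by group, h.inv]; group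

theorem sq_of_central (hP : IsPGroup 2 P) (h : ¬ Four P) (hc : ¬ IsCyclic P) {x : G} (hx : x ∈ P)
    (hz : x ∈ centralizer (P : Set G)) : x * x = 1 := by
  obtain ⟨a, b, hq⟩ := exists_qg hP h hc
  obtain ⟨i, rfl | rfl⟩ := hq.all x hx
  · rw [← eq_inv_iff_mul_eq_one, ← hq.inv' i, hz b hq.hb, mul_inv_cancel_right]
  · refine absurd ?_ hq.sq
    rw [← eq_inv_iff_mul_eq_one, ← hq.inv_out i, ← hz a hq.ha, mul_inv_cancel_right]

theorem exists_pow_sq_mem {N : Subgroup G} (hP : IsPGroup 2 P) {x : G} (hx : x ∈ P) (h : x ∉ N) :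
    ∃ y ∈ zpowers x, y ∉ N ∧ y * y ∈ N := by
  obtain ⟨k, hk⟩ := isPGroup_iff_mem.mp hP x hx
  obtain ⟨j, h1, h2⟩ := PGroup.exists_pow_not_mem_pow_mem (N := N) (hk ▸ one_mem N) h
  exact ⟨_, pow_mem (mem_zpowers x) _, h1, by rwa [← pow_two]⟩

theorem exists_central_mod {S M N : Subgroup G} (hS : IsPGroup 2 S) (hM : M ≤ S) (hN : N ≤ S)
    (h1 : S ≤ normalizer (M : Set G)) (h2 : S ≤ normalizer (N : Set G)) (h : ¬ M ≤ N) :
    ∃ x ∈ M, x ∉ N ∧ ∀ g ∈ S, x * g * x⁻¹ * g⁻¹ ∈ N := by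
  have := (normal_subgroupOf_iff_le_normalizer hM).mpr h1
  have := (normal_subgroupOf_iff_le_normalizer hN).mpr h2
  have := hS.isNilpotent
  obtain ⟨x, hx, h3, h4⟩ := PGroup.exists_central_mod_of_not_le (M := M.subgroupOf S) (N := N.subgroupOf S)
    fun e => h fun x hx => e (show (⟨x, hM hx⟩ : S) ∈ M.subgroupOf S from hx)
  exact ⟨x, hx, h3, fun g hg => h4 ⟨g, hg⟩⟩

theorem four_of_simple [IsSimpleGroup G] (hn : ¬ IsMulCommutative G) (T : Sylow 2 G) :
    Four (T : Subgroup G) := by_contra fun h => by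
  obtain ⟨z, hz, h2⟩ := exists_involution_of_pgroup T.isPGroup' (T.ne_bot_of_dvd_card
    (FT.even_card_of_simple hn).two_dvd)
  have := ZStar.central_of_unique_involution (ZStar.oddCore_eq_bot_iff.mp (pPrimeCore_eq_bot_of_simple
    (FT.even_card_of_simple hn).two_dvd)) T hz fun s hs h3 => eq_of_not_four T.isPGroup' h hs hz
      (mul_self_of_orderOf_two h3) (mul_self_of_orderOf_two h2) (ne_one_of_orderOf_two h3)
      (ne_one_of_orderOf_two h2)
  rw [center_eq_bot_of_simple hn, mem_bot] at this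
  exact ne_one_of_orderOf_two h2 this

theorem conj_of_simple [IsSimpleGroup G] (hn : ¬ IsMulCommutative G) (T : Sylow 2 G) {r : G}
    (h : (zpowers r).relIndex T = 2) {x y : G} (hx : orderOf x = 2) (hy : orderOf y = 2) :
    ∃ g : G, g * x * g⁻¹ = y :=
  Transfer.conj_of_cyclic_index_two (Transfer.index_ne_two_of_pResidual_eq_top
    (pResidual_eq_top_of_simple hn 2)) T.not_dvd_index h inferInstance hx hy

theorem relIndex_map_eq_two {Y : Type*} [Group Y] [Finite Y] (f : G →* Y) {r : G} (hr : r ∈ P)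
    (h : (zpowers r).relIndex P = 2) (hc : ¬ IsCyclic (P.map f)) :
    (zpowers (f r)).relIndex (P.map f) = 2 := by
  have h1 : (zpowers (f r)).relIndex (P.map f) ∣ 2 := by
    rw [← h, ← MonoidHom.map_zpowers, ← relIndex_comap]
    exact relIndex_dvd_of_le_left _ (le_comap_map _ _)
  refine ((Nat.dvd_prime Nat.prime_two).mp h1).resolve_left fun e => hc ?_
  rw [← le_antisymm (zpowers_le.mpr (mem_map_of_mem f hr)) (relIndex_eq_one.mp e)]
  infer_instance

theorem four_of_commute (hP : IsPGroup 2 P) {v c : G} (hv : v ∈ P) (hc : c ∈ P) (h : v * c = c * v)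
    (h1 : v ∉ zpowers c) (h2 : c ∉ zpowers v) : Four P := by
  have hle : zpowers v ⊔ zpowers c ≤ P := sup_le (zpowers_le.mpr hv) (zpowers_le.mpr hc)
  have hK : zpowers v ⊔ zpowers c ≤ centralizer ((zpowers v ⊔ zpowers c : Subgroup G) : Set G) := by
    have key : ∀ x : G, x * v = v * x → x * c = c * x →
        zpowers x ≤ centralizer ((zpowers v ⊔ zpowers c : Subgroup G) : Set G) := fun x h3 h4 =>
      zpowers_le.mpr (le_cent_single.mp (sup_le (zpowers_le.mpr (mem_centralizer_singleton_iff.mpr h3.symm))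
        (zpowers_le.mpr (mem_centralizer_singleton_iff.mpr h4.symm))))
    exact sup_le (key v rfl h) (key c h.symm rfl)
  refine (four_of_comm (hP.to_le hle) (le_centralizer_iff_isMulCommutative.mp hK) fun hcyc => ?_).mono hle
  obtain ⟨i, hi⟩ := (isPGroup_zpowers_iff).mp (isPGroup_zpowers_of_mem hP hv)
  obtain ⟨j, hj⟩ := (isPGroup_zpowers_iff).mp (isPGroup_zpowers_of_mem hP hc)
  have a1 : v ∈ zpowers v ⊔ zpowers c := mem_sup_left (mem_zpowers v)
  have a2 : c ∈ zpowers v ⊔ zpowers c := mem_sup_right (mem_zpowers c)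
  rcases le_total i j with e | e
  exacts [h1 (CIT.App.mem_zpowers_of_isCyclic hcyc a1 a2 (hi ▸ hj ▸ pow_dvd_pow 2 e)),
    h2 (CIT.App.mem_zpowers_of_isCyclic hcyc a2 a1 (hi ▸ hj ▸ pow_dvd_pow 2 e))]

theorem isSolvable_mulAut (hP : IsPGroup 2 P) (h : ¬ Four P) : Group.IsSolvable (MulAut P) := by
  have key : ∀ x y : P, (orderOf x).Prime → (orderOf y).Prime → y ∈ zpowers x := fun x y hx hy => by
    have h2 : ∀ w : P, (orderOf w).Prime → orderOf w = 2 := fun w hw => by
      obtain ⟨k, hk⟩ := hP w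
      exact (Nat.prime_dvd_prime_iff_eq hw Nat.prime_two).mp
        (hw.dvd_of_dvd_pow (orderOf_dvd_of_pow_eq_one hk))
    exact mem_zpowers_of_not_four hP h x y (h2 x hx) (h2 y hy)
  rcases FrobCompl.isPGroup_mulAut_or_Q8 (G := P) (fun x y hx hy _ => by
    obtain ⟨k, hk⟩ := key x y hx hy
    exact ⟨hk ▸ (Commute.zpow_self x k).eq, fun _ => ⟨k, hk⟩⟩) hP with h1 | ⟨⟨e⟩⟩
  exacts [Coprime.isSolvable_of_isPGroup h1, FrobCompl.isSolvable_mulAut_of_equiv e]

theorem mul_mem_of_relIndex_two {A B : Subgroup G} (h : A.relIndex B = 2) {x y : G} (hx : x ∈ B)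
    (hy : y ∈ B) : x * y ∈ A ↔ (x ∈ A ↔ y ∈ A) :=
  mul_mem_iff_of_index_two (H := A.subgroupOf B) h (a := ⟨x, hx⟩) (b := ⟨y, hy⟩)

theorem mem_zpowers_two {s b : G} (h : s * s = 1) (hb : b ∈ zpowers s) : b = 1 ∨ b = s := by
  obtain ⟨k, rfl⟩ := hb
  have : s ^ (2 : ℤ) = 1 := by rw [zpow_two, h]
  rcases Int.even_or_odd' k with ⟨j, rfl | rfl⟩ <;> simp [zpow_add, zpow_mul, this]

theorem ab2_of_sylow (T : Sylow 2 G) (h : IsMulCommutative (T : Subgroup G)) : Ab2 G := fun S => by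
  obtain ⟨g, rfl⟩ := MulAction.exists_smul_eq G T S
  exact comm_map h _

end two

/-- the top of a quasisimple group with the property `R1` and Sylow 2-subgroups of rank at least two -/
theorem hasSC_top {K Y : Type u} [Group K] [Finite K] [Group Y] [Finite Y] [IsSimpleGroup Y]
    (hn : ¬ IsMulCommutative Y) {f : K →* Y} (hf : Function.Surjective f) (hk : IsPGroup 2 f.ker)
    (hz : f.ker ≤ center K) (h : R1 K) (T : Sylow 2 K) (h4 : Four (T : Subgroup K)) : HasSC Y := by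
  refine hasSC_of_central (T.mapSurjective hf) (sylow_ne_bot hn _) fun x hx x2 hc g hg hne T' h1 _ => ?_
  obtain ⟨T', rfl⟩ := Sylow.mapSurjective_surjective hf 2 T'
  have hx1 : x ≠ 1 := fun e => hne (by simp [e])
  by_contra hT
  have hm : ∀ (R : Sylow 2 K) (k : K), f k ∈ (R.mapSurjective hf : Subgroup Y) → k ∈ (R : Subgroup K) :=
    fun R k hk' => comap_map_sylow hk R ▸ hk'
  have h5 : ¬ Four ((T' : Subgroup K) ⊓ T) := fun e => hT (h _ _ e ▸ rfl)
  have h6 : ∀ k : K, f k ∈ (T.mapSurjective hf : Subgroup Y) → f k * (g * x * g⁻¹) = g * x * g⁻¹ * f k →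
      k ∈ (T' : Subgroup K) ⊓ T := fun k h2 h3 =>
    ⟨hm _ _ (h1 ⟨h2, mem_centralizer_singleton_iff.mpr h3⟩), hm _ _ h2⟩
  by_cases hZ : f.ker = ⊥
  · refine h5 (Four.of_map (f := f) ?_ fun k _ e => mem_bot.mp (hZ ▸ e))
    obtain ⟨w, rfl⟩ := hf x
    obtain ⟨y, hy⟩ := hf (g * f w * g⁻¹)
    have e := mem_centralizer_singleton_iff.mp (hc hg)
    exact ⟨_, mem_map_of_mem f (h6 w hx e.symm), _, hy ▸ mem_map_of_mem f (h6 y (hy ▸ hg) (by rw [hy])), x2,
      conj_sq x2, e.symm, hx1, by simpa using hx1, hne.symm⟩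
  obtain ⟨z, hz1, hz2⟩ := exists_involution_of_pgroup hk hZ
  have hzT := h6 z (by rw [MonoidHom.mem_ker.mp hz1]; exact one_mem _) (by simp [MonoidHom.mem_ker.mp hz1])
  have h7 : ∀ u ∈ (T' : Subgroup K) ⊓ T, u * u = 1 → f u = 1 := fun u hu u2 => by_contra fun e =>
    h5 ⟨u, hu, z, hzT, u2, mul_self_of_orderOf_two hz2, mem_center_iff.mp (hz hz1) u,
      fun e1 => e (by rw [e1, map_one]), ne_one_of_orderOf_two hz2, fun e1 => e (e1 ▸ hz1)⟩
  have h8 : ∀ E : Subgroup K, E ≤ T → Four E → ∃ u ∈ E, u * u = 1 ∧ f u ≠ 1 := fun E _ hE => by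
    obtain ⟨a, ha, b, hb, a2, b2, -, a1, b1, hab⟩ := hE
    by_contra! hh
    have hk' : ∀ c, f c = 1 → c ∈ (T' : Subgroup K) ⊓ T := fun c e => h6 c (e ▸ one_mem _) (by simp [e])
    exact hab (eq_of_not_four (T.isPGroup'.to_le inf_le_right) h5 (hk' a (hh a ha a2)) (hk' b (hh b hb b2))
      a2 b2 a1 b1)
  by_cases hA : ∀ A : Subgroup (T : Subgroup K), A.Normal → IsMulCommutative A → IsCyclic A
  · obtain ⟨-, a, -, -, h9, -⟩ := (Frob.exists_gens_of_forall_normal_isCyclic T.isPGroup' hA).resolve_left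
      h4.not_isCyclic
    have h10 : (zpowers (a : K)).relIndex T = 2 := (relIndex_zpowers_coe a).trans h9
    obtain ⟨u, -, u2, u1⟩ := h8 _ le_rfl h4
    obtain ⟨k, hk'⟩ := conj_of_simple hn (T.mapSurjective hf) (relIndex_map_eq_two f a.2 h10
      (four_of_simple hn (T.mapSurjective hf)).not_isCyclic)
      (orderOf_two_of_mul_self (by rw [← map_mul, u2, map_one]) u1) (orderOf_two_of_mul_self x2 hx1)
    obtain ⟨k, rfl⟩ := hf k
    have e : f (k * u * k⁻¹) = x := by simpa using hk'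
    exact hx1 (e ▸ h7 _ (h6 _ (e ▸ hx) (e ▸ (mem_centralizer_singleton_iff.mp (hc hg)).symm)) (conj_sq u2))
  · push Not at hA
    obtain ⟨A, hA1, hA2, hA3⟩ := hA
    have hA4 := comm_map hA2 (T : Subgroup K).subtype
    have hAT := map_subtype_le A
    set B := A.map (T : Subgroup K).subtype
    have hB : Four (omegaOne 2 B) := by
      obtain ⟨a, ha, b, hb, a2, b2, h⟩ := four_of_comm (T.isPGroup'.to_le hAT) hA4 fun e => hA3
        ((A.equivMapOfInjective _ (subtype_injective _)).isCyclic.mpr e)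
      exact ⟨a, (mem_omegaOne_two hA4).mpr ⟨ha, a2⟩, b, (mem_omegaOne_two hA4).mpr ⟨hb, b2⟩, a2, b2, h⟩
    have hBT : omegaOne 2 B ≤ T := fun a ha => hAT ((mem_omegaOne_two hA4).mp ha).1
    obtain ⟨u, hu, u1, h9⟩ := exists_central_mod T.isPGroup' hBT (N := f.ker)
      (fun c hc => hm T c (MonoidHom.mem_ker.mp hc ▸ one_mem _))
      (fun t ht => mem_normalizer_of_forall fun a ha => by
        obtain ⟨⟨c, hc', rfl⟩, a2⟩ := (mem_omegaOne_two hA4).mp ha
        exact (mem_omegaOne_two hA4).mpr ⟨⟨_, hA1.conj_mem c hc' ⟨t, ht⟩, rfl⟩, conj_sq a2⟩)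
      (normalizer_eq_top f.ker ▸ le_top) fun e => by
        obtain ⟨v, hv, -, v1⟩ := h8 _ hBT hB
        exact v1 (e hv)
    refine u1 (h7 u (h6 u (mem_map_of_mem f (hBT hu)) ?_) ((mem_omegaOne_two hA4).mp hu).2)
    obtain ⟨y, hy, e⟩ := hg
    have := MonoidHom.mem_ker.mp (h9 y hy)
    rw [map_mul, map_mul, map_mul, map_inv, map_inv, e, mul_inv_eq_one, mul_inv_eq_iff_eq_mul] at this
    exact this

/-- an outer involution lies in at least two Sylow 2-subgroups if the socle has dihedral Sylow subgroups -/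
theorem no_outer {X : Type u} [Group X] [Finite X] {Y : Subgroup X} [hY : Y.Normal] [IsSimpleGroup Y]
    (hn : ¬ IsMulCommutative Y) (hC : centralizer (Y : Set X) = ⊥) (hg : Ab2 Y → Good Y)
    (S : Sylow 2 X) {a r : X} (a2 : a * a = 1) (haY : a ∉ Y) (hU : Uniq (zpowers a) S) {T : Subgroup X}
    (hT : IsSylowIn 2 T Y) (hS : T ≤ S) (hr : r ∈ T) (hi : (zpowers r).relIndex T = 2)
    (hd : ∀ s ∈ T, s ∉ zpowers r → s * s = 1) : False := by
  have hmk : ∀ {x}, x ∈ (S : Subgroup X) → x ∈ Y → x ∈ T := fun h1 h2 =>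
    (hT.eq_of_le (S.isPGroup'.to_le inf_le_left) (le_inf hS hT.le) inf_le_right).le ⟨h1, h2⟩
  have haS : a ∈ (S : Subgroup X) := hU.1 (mem_zpowers a)
  have hcT : ∀ b ∈ (S : Subgroup X), ∀ x ∈ T, b * x * b⁻¹ ∈ T := fun b hb x hx =>
    hmk (mul_mem (mul_mem hb (hS hx)) (inv_mem hb)) (hY.conj_mem x (hT.le hx) b)
  have hconj : ∀ x ∈ Y, ∀ y ∈ Y, orderOf x = 2 → orderOf y = 2 → ∃ g : X, g * x * g⁻¹ = y :=
    fun x hx y hy h1 h2 => by
      obtain ⟨g, e⟩ := conj_of_simple hn hT.toSylow (r := ⟨r, hT.le hr⟩) (by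
        refine Eq.trans ?_ ((relIndex_subgroupOf hT.le).trans hi)
        rw [hT.coe_toSylow]
        congr 1
        rw [← map_subtype_inj, MonoidHom.map_zpowers, subgroupOf_map_subtype,
          inf_eq_left.mpr (zpowers_le.mpr (hT.le hr))]
        rfl) (x := ⟨x, hx⟩) (y := ⟨y, hy⟩) (by rwa [← orderOf_coe]) (by rwa [← orderOf_coe])
      exact ⟨g, congrArg Subtype.val e⟩
  have hR : ∀ x ∈ zpowers r, ∀ y ∈ zpowers r, orderOf x = 2 → orderOf y = 2 → x = y :=
    fun x hx y hy => Transfer.eq_of_orderOf_eq_two_of_isCyclic inferInstance hx hy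
  obtain ⟨t, ht, t2, htc⟩ := exists_mem_center_of_normalized S.isPGroup' hS
    (fun b hb => mem_normalizer_of_forall (hcT b hb)) fun e => by
      have := relIndex_eq_one.mpr (e.trans_le bot_le : T ≤ zpowers r)
      omega
  have hα : ∀ b : X, Uniq (zpowers b) S → ∀ w ∈ Y, orderOf w = 2 → b * w = w * b →
      (S : Subgroup X) ≤ centralizer {w} := fun b hb w hw w2 e => by
    obtain ⟨g, rfl⟩ := hconj t (hT.le ht) w hw t2 w2
    obtain ⟨U, h1, h2⟩ := exists_sylow_le_cent _ (smul_le_cent (le_cent_single.mpr htc) g)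
      (S.isPGroup'.to_le hb.1) (zpowers_le.mpr (mem_centralizer_singleton_iff.mpr e))
    exact hb.2 U h1 ▸ h2
  by_cases h4 : ∃ x ∈ T, a * x = x * a ∧ x * x ≠ 1
  · obtain ⟨x, hx, h1, h2, h3⟩ : ∃ x ∈ T, a * x = x * a ∧ x * x ≠ 1 ∧ x * x * (x * x) = 1 := by
      obtain ⟨x, hx, h1, h2⟩ := h4
      obtain ⟨y, ⟨k, rfl⟩, h5, h6⟩ := exists_pow_sq_mem (N := ⊥) hT.pgroup (mul_mem hx hx) h2
      have e : (x * x) ^ k = x ^ k * x ^ k := (Commute.refl x).mul_zpow k
      simp only [e] at h5 h6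
      exact ⟨x ^ k, zpow_mem hx k, (Commute.zpow_right h1 k).eq, h5, h6⟩
    have hxr : ∀ y ∈ T, y * y ≠ 1 → y ∈ zpowers r := fun y hy h => by_contra fun e => h (hd y hy e)
    have hx2 : orderOf (x * x) = 2 := orderOf_two_of_mul_self h3 h2
    have hinv : ∀ s ∈ T, s ∉ zpowers r → ∀ y ∈ zpowers r, s * y * s⁻¹ = y⁻¹ := fun s hs h5 y hy => by
      have := hd _ (mul_mem hs (zpowers_le.mpr hr hy)) fun e => h5 ((mul_mem_cancel_right hy).mp e)
      rw [eq_inv_iff_mul_eq_one, inv_eq_of_mul_eq_one_right (hd s hs h5), mul_assoc, this]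
    have hne : x⁻¹ ≠ x := fun e => h2 (by nth_rw 1 [← e]; exact inv_mul_cancel x)
    have hb : ∀ b ∈ (S : Subgroup X), b * x * b⁻¹ = x ∨ b * x * b⁻¹ = x⁻¹ := fun b hb => by
      have e : b * x * b⁻¹ * (b * x * b⁻¹) = b * (x * x) * b⁻¹ := by group
      have h5 := hxr _ (hcT b hb x hx) (by rw [e]; simpa using h2)
      have h6 := hR _ (mul_mem h5 h5) _ (mul_mem (hxr x hx h2) (hxr x hx h2))
        (by rw [e, orderOf_conj_eq, hx2]) hx2
      have h7 := mul_comm_of_comm inferInstance h5 (inv_mem (hxr x hx h2))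
      by_cases h8 : b * x * b⁻¹ * x⁻¹ = 1
      · exact Or.inl (mul_inv_eq_one.mp h8)
      have h9 := hR _ (mul_mem h5 (inv_mem (hxr x hx h2))) _ (mul_mem (hxr x hx h2) (hxr x hx h2))
        (orderOf_two_of_mul_self (by
          rw [mul_assoc, ← mul_assoc x⁻¹, ← h7, ← mul_assoc, ← mul_assoc, h6]; group) h8) hx2
      rw [mul_inv_eq_iff_eq_mul] at h9
      exact Or.inr (by rw [h9, eq_inv_iff_mul_eq_one, mul_assoc, h3])
    obtain ⟨s, hs, h5⟩ : ∃ s ∈ T, s ∉ zpowers r := by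
      by_contra! e
      have := relIndex_eq_one.mpr (show T ≤ zpowers r from e)
      omega
    have s2 := hd s hs h5
    have hs1 : s ≠ 1 := fun e => h5 (e ▸ one_mem _)
    have hsx := hinv s hs h5 x (hxr x hx h2)
    have h6 : a * s * a⁻¹ * x * (a * s * a⁻¹)⁻¹ = x⁻¹ := by
      rw [show a * s * a⁻¹ * x * (a * s * a⁻¹)⁻¹ = a * s * (a⁻¹ * (x * a)) * s⁻¹ * a⁻¹ by group, ← h1,
        inv_mul_cancel_left, mul_assoc a, mul_assoc a, hsx, mul_inv_eq_iff_eq_mul]
      exact (Commute.inv_right h1).eq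
    have h7 : a * s * a⁻¹ ∉ zpowers r := fun e => hne (by
      rw [← h6, mul_comm_of_comm inferInstance e (hxr x hx h2), mul_inv_cancel_right])
    have h8 : s * (a * s * a⁻¹) ∈ zpowers r :=
      (mul_mem_of_relIndex_two hi hs (hcT a haS s hs)).mpr (iff_of_false h5 h7)
    have h9 : s * (a * s * a⁻¹) = x * x := by
      have e1 : a * (s * (a * s * a⁻¹)) * a⁻¹ = (s * (a * s * a⁻¹))⁻¹ := by
        rw [inv_eq_of_mul_eq_one_right a2, eq_inv_iff_mul_eq_one]
        simp only [mul_assoc, ← mul_assoc a a, a2, one_mul, ← mul_assoc s s, s2]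
      refine hR _ h8 _ (mul_mem (hxr x hx h2) (hxr x hx h2)) (orderOf_two_of_mul_self
        (by_contra fun e => ?_) fun e => hne ?_) hx2
      · obtain ⟨i, hi⟩ := isPGroup_zpowers_iff.mp (isPGroup_zpowers_of_mem hT.pgroup (zpowers_le.mpr hr h8))
        obtain ⟨k, hk⟩ := CIT.App.mem_zpowers_of_isCyclic inferInstance (hxr x hx h2) h8 (by
          rw [hi]
          refine (orderOf_dvd_of_pow_eq_one (n := 2 ^ 2) (by rw [pow_two, pow_mul, pow_two, pow_two, h3])).trans
            (pow_dvd_pow 2 (by_contra fun h => e ?_))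
          rw [← pow_two, ← orderOf_dvd_iff_pow_eq_one, hi]
          exact (pow_dvd_pow 2 (by omega : i ≤ 1)).trans (by norm_num))
        have e2 : a * x * a⁻¹ = x⁻¹ := by rw [← hk, ← conj_zpow, e1, inv_zpow]
        exact hne (by rw [← e2, h1, mul_inv_cancel_right])
      · have := mem_centralizer_singleton_iff.mp (hα a hU s (hT.le hs) (orderOf_two_of_mul_self s2 hs1) (by
          rw [← mul_inv_eq_iff_eq_mul, eq_inv_of_mul_eq_one_right e, inv_eq_of_mul_eq_one_right s2]) (hS hx))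
        rw [← hsx, ← this, mul_inv_cancel_right]
    have h10 : a * x * s = s * (a * x) := by
      have e1 : x * s = s * x⁻¹ := by rw [← hsx, ← mul_assoc, ← mul_assoc, s2, one_mul,
        inv_eq_of_mul_eq_one_right s2]
      have e2 : a * s = s * (x * x) * a := by rw [← h9, ← mul_assoc s, s2]; group
      rw [mul_assoc, e1, ← mul_assoc, e2, mul_assoc, (Commute.inv_right h1).eq, h1]
      group
    have h11 : (S : Subgroup X) ≤ centralizer {x * x} := hα a hU _ (mul_mem (hT.le hx) (hT.le hx)) hx2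
      (Commute.mul_right h1 h1).eq
    obtain ⟨g, e⟩ := hconj s (hT.le hs) _ (mul_mem (hT.le hx) (hT.le hx)) (orderOf_two_of_mul_self s2 hs1) hx2
    have y2 : a * x * (a * x) = x * x := by
      rw [mul_assoc, ← mul_assoc x, ← h1, mul_assoc, ← mul_assoc, a2, one_mul]
    obtain ⟨c, hc, h12⟩ := (IsSylowIn.of_sylow S h11).exists_conj_mem (x := g * (a * x) * g⁻¹)
      (mem_centralizer_singleton_iff.mpr (by
        rw [← e, show g * (a * x) * g⁻¹ * (g * s * g⁻¹) = g * (a * x * s) * g⁻¹ by group, h10]; group))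
      (cj_zpowers g _ ▸ isPGroup_cj g (isPGroup_zpowers_of_mem S.isPGroup' (mul_mem haS (hS hx))))
    set b := c * (g * (a * x) * g⁻¹) * c⁻¹ with hbd
    have b2 : b * b = c * g * (x * x) * (c * g)⁻¹ := by rw [← y2, hbd]; group
    have h13 : b * b ∉ zpowers r := fun h => h5 (by
      have e1 := hR _ h _ (mul_mem (hxr x hx h2) (hxr x hx h2)) (by rw [b2, orderOf_conj_eq, hx2]) hx2
      have e2 : c * g * s * (c * g)⁻¹ = x * x := by
        rw [show c * g * s * (c * g)⁻¹ = c * (g * s * g⁻¹) * c⁻¹ by group, e,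
          mem_centralizer_singleton_iff.mp hc, mul_inv_cancel_right]
      rw [b2] at e1
      exact mul_left_cancel (mul_right_cancel (e1.trans e2.symm)) ▸ mul_mem (hxr x hx h2) (hxr x hx h2))
    refine hne ((hinv _ (hmk (mul_mem h12 h12) (b2 ▸ hY.conj_mem _ (mul_mem (hT.le hx) (hT.le hx)) _)) h13 x
      (hxr x hx h2)).symm.trans ?_)
    rw [show b * b * x * (b * b)⁻¹ = b * (b * x * b⁻¹) * b⁻¹ by group]
    rcases hb b h12 with e1 | e1
    · rw [e1, e1]
    · rw [e1, ← conj_inv, e1, inv_inv]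
  push Not at h4
  have hat : a * t = t * a := htc a haS
  by_cases h5 : ∃ x ∈ T, a * x = x * a ∧ x ≠ 1 ∧ x ≠ t
  · obtain ⟨x, hx, h1, h2, h3⟩ := h5
    obtain ⟨u, hu, s, hs, hur, hsr, u1, hua, hsa⟩ : ∃ u ∈ T, ∃ s ∈ T, u ∈ zpowers r ∧ s ∉ zpowers r ∧
        u ≠ 1 ∧ a * u = u * a ∧ a * s = s * a := by
      have x2 := orderOf_two_of_mul_self (h4 x hx h1) h2
      by_cases e1 : x ∈ zpowers r <;> by_cases e2 : t ∈ zpowers r
      exacts [absurd (hR x e1 t e2 x2 t2) h3, ⟨x, hx, t, ht, e1, e2, h2, h1, hat⟩,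
        ⟨t, ht, x, hx, e2, e1, ne_one_of_orderOf_two t2, hat, h1⟩,
        ⟨x * t, mul_mem hx ht, t, ht, (mul_mem_of_relIndex_two hi hx ht).mpr (iff_of_false e1 e2), e2,
          fun e => h3 (by rw [eq_inv_of_mul_eq_one_left e, inv_eq_of_orderOf_two t2]),
          (Commute.mul_right h1 hat).eq, hat⟩]
    have s2 := hd s hs hsr
    have r2 : r * r = 1 := by
      have e := mem_centralizer_singleton_iff.mp (hα a hU s (hT.le hs)
        (orderOf_two_of_mul_self s2 fun e => hsr (e ▸ one_mem _)) hsa (hS hr))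
      have := hd _ (mul_mem hr hs) fun e => hsr ((mul_mem_cancel_left (mem_zpowers r)).mp e)
      rwa [mul_assoc, ← mul_assoc s, ← e, mul_assoc, s2, mul_one] at this
    have hra : a * r = r * a := hR u hur r (mem_zpowers r) (orderOf_two_of_mul_self (h4 u hu hua) u1)
      (orderOf_two_of_mul_self r2 fun e => u1 (by simpa [e] using hur)) ▸ hua
    have hall : ∀ y ∈ T, a * y = y * a := fun y hy => by
      have key : ∀ w ∈ zpowers r, Commute a w := by
        rintro _ ⟨k, rfl⟩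
        exact Commute.zpow_right hra k
      by_cases e : y ∈ zpowers r
      · exact key y e
      · have := (key _ ((mul_mem_of_relIndex_two hi hy hs).mpr (iff_of_false e hsr))).mul_right hsa
        rwa [mul_assoc, s2, mul_one] at this
    obtain ⟨v, -, e⟩ := (hg (ab2_of_sylow hT.toSylow (comm_of_elem fun y hy =>
      Subtype.ext (h4 y hy (hall y hy))))).exists_conj_eq hT.toSylow (φ := MulAut.conjNormal a) (k := 1)
      (by rw [← map_pow, pow_one, pow_two, a2, map_one]) fun y hy => Subtype.ext (by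
        rw [MulAut.conjNormal_apply, hall y hy, mul_inv_cancel_right])
    have : (v : X)⁻¹ * a ∈ centralizer (Y : Set X) := fun y hy => by
      have := congrArg Subtype.val (DFunLike.congr_fun e ⟨y, hy⟩)
      rw [MulAut.conjNormal_apply] at this
      rw [mul_assoc, show a * y = a * y * a⁻¹ * a by group, this]
      simp [mul_assoc]
    rw [hC, mem_bot, inv_mul_eq_one] at this
    exact haY (this ▸ v.2)
  push Not at h5
  have tt := mul_self_of_orderOf_two t2
  have hU' : Uniq (zpowers (t * a)) S := by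
    obtain ⟨x, hx, h1, h2⟩ := exists_central_mod S.isPGroup' hS (zpowers_le.mpr (hS ht))
      (fun b hb => mem_normalizer_of_forall (hcT b hb)) ((le_cent_single.mpr htc).trans
        (centralizer_zpowers t ▸ centralizer_le_normalizer _)) fun e =>
          (four_of_simple hn hT.toSylow).not_isCyclic (by
            have := isCyclic_of_le e
            exact isCyclic_of_surjective _ (subgroupOfEquivOfLe hT.le).symm.surjective)
    have e : x * a * x⁻¹ = t * a := by
      rcases mem_zpowers_two tt (h2 a haS) with e | e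
      · refine absurd ?_ h1
        rw [mul_inv_eq_one, mul_inv_eq_iff_eq_mul] at e
        by_cases e1 : x = 1
        exacts [e1 ▸ one_mem _, h5 x hx e.symm e1 ▸ mem_zpowers t]
      · rwa [mul_inv_eq_iff_eq_mul] at e
    refine ⟨zpowers_le.mpr (mul_mem (hS ht) haS), fun U hU1 => ?_⟩
    have := hU.2 (x⁻¹ • U) (by
      rw [coe_smul_sylow, zpowers_le, mem_cj, inv_inv, e]; exact hU1 (mem_zpowers _))
    rw [inv_smul_eq_iff.mp this, Sylow.smul_eq_iff_mem_normalizer]
    exact le_normalizer (hS hx)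
  have key : ∀ v ∈ Y, orderOf v = 2 → t * v = v * t := fun v hv v2 => by
    have vv := mul_self_of_orderOf_two v2
    obtain ⟨u, hu, u2, h1, h2⟩ := Invol.exists_central_involution_of_not_isConj a2 vv fun h => by
      obtain ⟨c, e⟩ := isConj_iff.mp h.symm
      exact haY (e ▸ hY.conj_mem v hv c)
    have uS : u ∈ (S : Subgroup X) := hU.le (Invol.isPGroup_zpowers_sup (isPGroup_two_zpowers a2)
      (isPGroup_two_zpowers (mul_self_of_orderOf_two u2)) h1.symm) le_sup_left (mem_sup_right (mem_zpowers u))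
    have h3 : u ∈ Y ∨ a * u ∈ Y := by
      obtain ⟨k, rfl⟩ := mem_powers_iff_mem_zpowers.mpr hu
      clear * - a2 hv hY
      induction k with
      | zero => exact Or.inl (by simp)
      | succ k ih =>
        simp only [pow_succ] at ih ⊢
        refine (ih.imp (fun h => ?_) fun h => ?_).symm
        · have := mul_mem (hY.conj_mem _ h a) hv
          rwa [inv_eq_of_mul_eq_one_right a2, mul_assoc, mul_assoc] at this
        · have := mul_mem (hY.conj_mem _ h a) hv
          rwa [inv_eq_of_mul_eq_one_right a2, ← mul_assoc, a2, one_mul, mul_assoc] at this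
    rcases h3 with h3 | h3
    · exact h5 u (hmk uS h3) h1.symm (ne_one_of_orderOf_two u2) ▸ h2.eq
    have e : u = a * (a * u) := by rw [← mul_assoc, a2, one_mul]
    by_cases h6 : a * u = 1
    · rw [h6, mul_one] at e
      exact mem_centralizer_singleton_iff.mp (hα a hU v hv v2 (e ▸ h2.eq) (hS ht))
    · rw [h5 _ (hmk (mul_mem haS uS) h3) ((Commute.refl a).mul_right h1.symm).eq h6, hat] at e
      exact mem_centralizer_singleton_iff.mp (hα _ hU' v hv v2 (e ▸ h2.eq) (hS ht))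
  have h6 : (⟨t, (hT.le ht)⟩ : Y) ∈ pCore 2 Y := by_contra fun h => by
    obtain ⟨g, y, ⟨k, rfl⟩, h1, h2, -⟩ := Invol.exists_inverted_of_not_mem_pCore (Subtype.ext tt) h
    refine h1 (eq_one_of_odd_of_mem (isPGroup_two_zpowers (Subtype.ext ?_)) ⟨k, rfl⟩ h2)
    exact Invol.mul_mul_self_of_commute tt (conj_sq tt)
      (key _ (hY.conj_mem t (hT.le ht) g) ((orderOf_conj_eq _ t).trans t2))
  rcases (inferInstance : (pCore 2 Y).Normal).eq_bot_or_eq_top with e | e
  · rw [e, mem_bot] at h6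
    exact ne_one_of_orderOf_two t2 (congrArg Subtype.val h6)
  · have := Coprime.isSolvable_of_isPGroup (e ▸ Core.isPGroup_pCore 2 Y : IsPGroup 2 (⊤ : Subgroup Y))
    have := Group.isSolvable_of_surjective (f := (⊤ : Subgroup Y).subtype) fun x => ⟨⟨x, mem_top x⟩, rfl⟩
    exact hn ⟨⟨IsSimpleGroup.comm_iff_isSolvable.2 this⟩⟩

end CfsgLib.SylInt
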