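import Mathlib
import Cfsg.Agent.Lib.SylInt.Quat
import Cfsg.Agent.Lib.Gold.Inputs
import Cfsg.Agent.Lib.GW.Cor2
import Cfsg.Agent.Lib.CIT.AppCN

/-! Components of groups with Sylow 2-intersections of rank at most one; cyclic intersections (S3308). -/

set_option autoImplicit false
set_option linter.unusedSectionVars false

namespace CfsgLib.SylInt

open Subgroup Cfsg CfsgLib.PComp CfsgLib.Abel2 CfsgLib.Tech CfsgLib.Gold CfsgLib.Comp CfsgLib.Gold.Cor
open scoped commutatorElement MatrixGroups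

universe u

variable {G : Type u} [Group G] [Finite G] {L : Subgroup G}

theorem four_of_cent {P : Subgroup G} (hP : IsPGroup 2 P) {v c : G} (hv : v ∈ P) (hc : c ∈ P) (h1 : v ∈ L)
    (h2 : v ∉ centralizer (L : Set G)) (h3 : c ∈ centralizer (L : Set G)) (h4 : c ∉ L) : Four P :=
  four_of_commute hP hv hc (h3 v h1) (fun e => h2 (zpowers_le.mpr h3 e)) fun e => h4 (zpowers_le.mpr h1 e)

theorem comp_not_normalizer (hL : IsComponent L) {P : Subgroup G} (hP : IsPGroup 2 P) (hPL : P ≤ L)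
    (h : ¬ P ≤ centralizer (L : Set G)) : ¬ L ≤ normalizer (P : Set G) := fun e =>
  (qs_sub_normal hL.2 hPL e).elim
    (fun e1 => comp_not_le_solvable hL (Coprime.isSolvable_of_isPGroup hP) e1.ge) h

theorem comp_normal_of_unique (hL : IsComponent L) (h : ∀ K : Subgroup G, IsComponent K → K = L) :
    L.Normal ∧ layer G = L :=
  ⟨normalizer_eq_top_iff.mp (eq_top_iff.mpr fun g _ => mem_normalizer_iff_cj.mpr (h _ (comp_map_conj hL g))),
    le_antisymm (layer_le_iff.mpr fun K hK => (h K hK).le) (comp_le_layer hL)⟩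

theorem bList_of_ti (hb : CIT.BenderSimple.{u}) [IsSimpleGroup G] (hn : ¬ IsMulCommutative G) (h : TI G) :
    BList G ∧ BType G := by
  obtain ⟨S⟩ : Nonempty (Sylow 2 G) := inferInstance
  exact ⟨bList_of (hb G hn _ (h.se hn S)), seb_of_benderSimple hb G inferInstance hn _ (h.se hn S)⟩

theorem ti_of_btype {X : Type*} [Group X] [Finite X] (h : BType X) : TI X :=
  fun _ _ _ h1 h2 h3 => h.eq_of_mem h1 h2 h3

theorem isSolvable_of_normal_sylow (S : Sylow 2 G) (h : (S : Subgroup G).Normal) : Group.IsSolvable G :=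
  CIT.App.isSolvable_of_normal_of_quotient (S : Subgroup G) (Coprime.isSolvable_of_isPGroup S.isPGroup')
    (FT.odd_order_solvable (Nat.not_even_iff_odd.mp fun e => S.not_dvd_index e.two_dvd))

theorem odd_index_of_le {M : Subgroup G} (S : Sylow 2 G) (h : (S : Subgroup G) ≤ M) : Odd M.index :=
  Nat.not_even_iff_odd.mp fun e => S.not_dvd_index (e.two_dvd.trans (index_dvd_of_le h))

theorem exists_comp (hO : pPrimeCore 2 G = ⊥) (hns : ¬ Group.IsSolvable G)
    (h : Group.IsSolvable (MulAut (pCore 2 G))) : ∃ L : Subgroup G, IsComponent L := by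
  by_contra! hc
  have h1 := fstar_eq_pCore_iff.mp (fstar_eq_pCore_iff'.mpr ⟨layer_eq_bot_iff.mpr hc, hO⟩)
  have := Coprime.isSolvable_of_isPGroup (Core.isPGroup_pCore 2 G)
  refine hns (Group.isSolvable_of_ker_le_range (pCore 2 G).subtype (MulAut.conjNormal (H := pCore 2 G)) ?_)
  rw [range_subtype]
  exact fun g hg => h1 fun x hx => by
    have := congrArg Subtype.val (DFunLike.congr_fun (MonoidHom.mem_ker.mp hg) ⟨x, hx⟩)
    rw [MulAut.conjNormal_apply, mul_inv_eq_iff_eq_mul] at this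
    exact this.symm

theorem R1.not_four_pCore (h : R1 G) (hns : ¬ Group.IsSolvable G) : ¬ Four (pCore 2 G) := fun h4 => by
  obtain ⟨S⟩ : Nonempty (Sylow 2 G) := inferInstance
  exact hns (isSolvable_of_normal_sylow S (normalizer_eq_top_iff.mp (eq_top_iff.mpr
    ((normalizer_eq_top (pCore 2 G)).ge.trans (h.uniq h4 (Core.pCore_le_sylow S)).normalizer_le))))

section comp

variable (hO : pPrimeCore 2 G = ⊥) (hL : IsComponent L)
include hO hL

theorem comp_top : IsSimpleGroup (Lt L) ∧ ¬ IsMulCommutative (Lt L) := lt_simple (comp_pqs hO hL)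

theorem comp_four_top {P : Subgroup G} (hP : IsSylowIn 2 P L) : Four (tbar L P) :=
  have := (comp_top hO hL).1
  four_of_simple (comp_top hO hL).2 (tSyl hP)

theorem comp_exists_not_cent {P : Subgroup G} (hP : IsSylowIn 2 P L) :
    ∃ v ∈ P, v ∉ centralizer (L : Set G) := by
  obtain ⟨_, ⟨l, hl, rfl⟩, -, -, -, -, -, h, -⟩ := comp_four_top hO hL hP
  exact ⟨l, hl, fun e => h ((comp_tp_eq_one hO hL).mpr e)⟩

theorem comp_inf_le {P : Subgroup G} (hP : IsSylowIn 2 P L) : L ⊓ centralizer (L : Set G) ≤ P :=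
  hP.le_of_normalizes ((Core.isPGroup_pCore 2 G).to_le (comp_center_le hO hL)) inf_le_left
    (inf_le_right.trans ((centralizer_le hP.le).trans (centralizer_le_normalizer _)))

theorem comp_mem_of_tp {P : Subgroup G} (hP : IsSylowIn 2 P L) {l : L} (h : tp L l ∈ tbar L P) :
    (l : G) ∈ P :=
  hP.mem_toSylow.mp ((comap_map_sylow (isPGroup_ker_tp (comp_ker hO hL)) hP.toSylow).le h)

theorem comp_ker_le : (tp L).ker ≤ center L := by
  rw [QuotientGroup.ker_mk', comp_cbar hO hL, center_eq_subgroupOf_centralizer]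

theorem comp_exists_sylow (T : Sylow 2 (Lt L)) : ∃ (P : Subgroup G) (hP : IsSylowIn 2 P L), tSyl hP = T := by
  obtain ⟨R, rfl⟩ := Sylow.mapSurjective_surjective (tp_surjective L) 2 T
  refine ⟨_, IsSylowIn.of_sylow_subgroup R, ?_⟩
  rw [tSyl]
  congr 1
  exact Sylow.ext (by rw [IsSylowIn.coe_toSylow, subgroupOf, comap_map_eq_self_of_injective L.subtype_injective])

theorem comp_not_isCyclic {P : Subgroup G} (hP : IsSylowIn 2 P L) : ¬ IsCyclic P := fun h =>
  (comp_four_top hO hL hP).not_isCyclic (by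
    have := isCyclic_of_surjective _ (subgroupOfEquivOfLe hP.le).symm.surjective
    exact isCyclic_of_surjective _ ((tp L).subgroupMap_surjective (P.subgroupOf L)))

theorem comp_not_four_cent (h : R1 G) {C : Subgroup G} (hC : IsPGroup 2 C)
    (hc : C ≤ centralizer (L : Set G)) : ¬ Four C := fun h4 => by
  obtain ⟨P, hP⟩ := exists_isSylowIn 2 L
  obtain ⟨v, hv, h1⟩ := comp_exists_not_cent hO hL hP
  exact comp_not_normalizer hL hP.pgroup hP.le (fun e => h1 (e hv)) fun g hg =>
    mem_normalizer_iff_cj.mpr (h.eq_of_four (hP.cj_of_mem hg) hP hC hc (h4.mono le_sup_right))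

theorem comp_ti (h : R1 G) {c : G} (hc : IsPGroup 2 (zpowers c)) (h1 : c ∈ centralizer (L : Set G))
    (h2 : c ∉ L) : TI (Lt L) := fun S T v hS hT hv => by
  obtain ⟨P, hP, rfl⟩ := comp_exists_sylow hO hL S
  obtain ⟨P', hP', rfl⟩ := comp_exists_sylow hO hL T
  obtain ⟨v, rfl⟩ := tp_surjective L v
  obtain rfl := h.eq_of_four hP hP' hc (zpowers_le.mpr h1) (four_of_cent
    (isPGroup_sup_of_cent (hP.pgroup.to_le inf_le_left) hc (zpowers_le.mpr
      (centralizer_le (inf_le_left.trans hP.le) h1)))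
    (mem_sup_left ⟨comp_mem_of_tp hO hL hP hS, comp_mem_of_tp hO hL hP' hT⟩) (mem_sup_right (mem_zpowers c))
    v.2 (fun e => hv ((comp_tp_eq_one hO hL).mpr e)) h1 h2)
  rfl

theorem comp_hasSC (h : R1 G) {P : Subgroup G} (hP : IsSylowIn 2 P L) (h4 : Four P) : HasSC (Lt L) :=
  have := (comp_top hO hL).1
  hasSC_top (comp_top hO hL).2 (tp_surjective L) (isPGroup_ker_tp (comp_ker hO hL)) (comp_ker_le hO hL)
    (h.of_injective _ L.subtype_injective) hP.toSylow
    (Four.of_map (f := L.subtype) (hP.map_toSylow.symm ▸ h4) fun _ _ e => Subtype.ext e)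

theorem comp_gt (hA : All.{u}) (hsc : HasSC (Lt L)) : GT (Lt L) :=
  (hA.inp _).gt (comp_top hO hL).1 (comp_top hO hL).2 hsc

/-- all involutions of the top have lifts with the same square -/
theorem comp_sq_eq (hg : GT (Lt L)) (hz : ∀ c ∈ L ⊓ centralizer (L : Set G), c * c = 1) {v w : L}
    (hv : orderOf (tp L v) = 2) (hw : orderOf (tp L w) = 2) : (v : G) * v = w * w := by
  obtain ⟨g, e⟩ := hg.exists_conj hv hw
  obtain ⟨g, rfl⟩ := tp_surjective L g
  have h1 : ((g * v * g⁻¹ * w⁻¹ : L) : G) ∈ centralizer (L : Set G) := (comp_tp_eq_one hO hL).mp (by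
    rw [map_mul, map_mul, map_mul, map_inv, map_inv, e, mul_inv_cancel])
  have h2 : ((v * v : L) : G) ∈ centralizer (L : Set G) := (comp_tp_eq_one hO hL).mp (by
    rw [map_mul, mul_self_of_orderOf_two hv])
  have h3 := hz _ ⟨(g * v * g⁻¹ * w⁻¹).2, h1⟩
  have h4 := h1 w w.2
  have h5 := h2 g g.2
  simp only [coe_mul, coe_inv] at h3 h4 h5
  generalize hc : (g : G) * v * (g : G)⁻¹ * (w : G)⁻¹ = c at h3 h4
  have h6 : (g : G) * v * (g : G)⁻¹ = c * w := by rw [← hc]; group
  calc (v : G) * v = g * v * (g : G)⁻¹ * (g * v * (g : G)⁻¹) := by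
        rw [show (g : G) * v * (g : G)⁻¹ * (g * v * (g : G)⁻¹) = g * (v * v) * (g : G)⁻¹ by group, h5]; group
    _ = c * c * (w * w) := by rw [h6, mul_assoc, ← mul_assoc (w : G), h4]; group
    _ = w * w := by rw [h3, one_mul]

end comp

theorem s3308_core (hA : All.{u}) (hj : J448.{u}) [Nontrivial G] (h : R1 G)
    (hR : ∀ N : Subgroup G, N.Normal → Group.IsSolvable N → N = ⊥) :
    ∃ L : Subgroup G, L.Normal ∧ Odd L.index ∧ IsSimpleGroup L ∧ ¬ IsMulCommutative L ∧ HList L := by
  have hO : pPrimeCore 2 G = ⊥ := hR _ inferInstance (FT.odd_subgroup_solvable (Core.odd_card_oddCore G))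
  have hQ : pCore 2 G = ⊥ := hR _ inferInstance (Coprime.isSolvable_of_isPGroup (Core.isPGroup_pCore 2 G))
  obtain ⟨L, hL⟩ : ∃ L : Subgroup G, IsComponent L := layer_ne_bot_iff.mp fun e =>
    fstar_ne_bot (by rw [fstar_eq_of_pPrimeCore_eq_bot hO, e, hQ, bot_sup_eq])
  have hs : ∀ K : Subgroup G, IsComponent K → IsSimpleGroup K ∧ ¬ IsMulCommutative K ∧
      ∀ P, IsSylowIn 2 P K → Four P := fun K hK => by
    have := isSimpleGroup_of_qs_of_center_eq_bot hK.2 (by
      rw [← map_eq_bot_iff_of_injective _ K.subtype_injective, map_center_subtype, eq_bot_iff, ← hQ]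
      exact comp_center_le hO hK)
    exact ⟨this, qs_not_isMulCommutative hK.2, fun P hP => hP.map_toSylow ▸
      (four_of_simple (qs_not_isMulCommutative hK.2) hP.toSylow).map _ fun _ _ e => Subtype.ext e⟩
  obtain ⟨hN, hE⟩ := comp_normal_of_unique hL fun K hK => by_contra fun e => by
    obtain ⟨P, hP⟩ := exists_isSylowIn 2 K
    exact comp_not_four_cent hO hL h hP.pgroup (hP.le.trans (comp_le_centralizer_of_ne hK hL e))
      ((hs K hK).2.2 P hP)
  obtain ⟨S⟩ : Nonempty (Sylow 2 G) := inferInstance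
  have hP := sylow_inf_normal S L
  obtain ⟨h1, h2, h3⟩ := hs L hL
  refine ⟨L, hN, odd_index_of_le S fun s hs' => ?_, h1, h2, ?_⟩
  · obtain ⟨p, hp, e⟩ := comp_out hO hL (comp_gt hO hL hA (comp_hasSC hO hL h hP (h3 _ hP))) S.isPGroup' hP
      inf_le_left (normalizer_eq_top L ▸ le_top)
      (inf_le_right.trans (h.uniq (h3 _ hP) inf_le_left).normalizer_le) hs'
    have := le_pCore_of_centralizes hO (hE ▸ le_rfl) (by simp [hQ]) e
    rw [hQ, mem_bot, inv_mul_eq_one] at this
    exact this ▸ hp.2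
  · have h4 := h.of_injective _ L.subtype_injective
    exact hList_of_hasSC hA hj h2 (hasSC_top h2 (f := MonoidHom.id L) Function.surjective_id
      (MonoidHom.ker_id (G := L) ▸ IsPGroup.of_bot) (by simp) h4 hP.toSylow (four_of_simple h2 _)) fun _ => h4

theorem s3308 (hA : All.{u}) (hj : J448.{u}) (hns : ¬ Group.IsSolvable G)
    (hC : ∀ S T : Sylow 2 G, S ≠ T → IsCyclic ↥((S : Subgroup G) ⊓ (T : Subgroup G)))
    (R : Subgroup G) [R.Normal] (hR : Group.IsSolvable R)
    (hRmax : ∀ N : Subgroup G, N.Normal → Group.IsSolvable N → N ≤ R) :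
    ∃ (G₁ : Subgroup G) (_ : G₁.Normal) (_ : (R.subgroupOf G₁).Normal), Odd G₁.index ∧ R ≤ G₁ ∧
      IsSimpleGroup (G₁ ⧸ R.subgroupOf G₁) ∧ ¬ IsMulCommutative (G₁ ⧸ R.subgroupOf G₁) ∧
        HList (G₁ ⧸ R.subgroupOf G₁) := by
  have hπ := QuotientGroup.mk'_surjective R
  have : Nontrivial (G ⧸ R) := not_subsingleton_iff_nontrivial.mp fun _ =>
    hns (CIT.App.isSolvable_of_normal_of_quotient R hR inferInstance)
  obtain ⟨L, h1, h2, h3, h4, h5⟩ := s3308_core (G := G ⧸ R) hA hj
    (fun S T h4 => by_contra fun e => h4.not_isCyclic (GW.Cor.cyclic_inf_of_surjective hπ hC S T e))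
    fun N hN hs => by
      obtain ⟨e⟩ := GW.Cor.nonempty_quot_comap R N
      have := hRmax (N.comap (QuotientGroup.mk' R)) inferInstance (CIT.App.isSolvable_of_normal_of_quotient
        (R.subgroupOf _) (Group.isSolvable_of_surjective (f := (subgroupOfEquivOfLe
          (QuotientGroup.le_comap_mk' R N)).symm.toMonoidHom) (MulEquiv.surjective _))
        (Group.isSolvable_of_surjective (f := e.symm.toMonoidHom) e.symm.surjective))
      rw [← map_comap_eq_self_of_surjective hπ N, Subgroup.map_eq_bot_iff, QuotientGroup.ker_mk']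
      exact this
  obtain ⟨e⟩ := GW.Cor.nonempty_quot_comap R L
  exact ⟨L.comap (QuotientGroup.mk' R), inferInstance, inferInstance, by rwa [index_comap_of_surjective _ hπ],
    QuotientGroup.le_comap_mk' R L, e.isSimpleGroup, fun h => h4 ⟨⟨fun a b => e.symm.injective (by
      rw [map_mul, map_mul, h.is_comm.comm])⟩⟩,
    h5.of_equiv e⟩

end CfsgLib.SylInt
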