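import Mathlib
import Cfsg.Agent.Lib.SylInt.Comp1
import Cfsg.Agent.Lib.Classical.SL2Sylow
import Cfsg.Agent.Lib.Classical.SmallIso

/-! Sylow 2-intersections of rank at most one: two components. -/

set_option autoImplicit false
set_option linter.unusedSectionVars false

namespace CfsgLib.SylInt

open Subgroup Cfsg CfsgLib.PComp CfsgLib.Abel2 CfsgLib.Tech CfsgLib.Gold CfsgLib.Comp CfsgLib.Gold.Cor
open scoped commutatorElement MatrixGroups

universe u

variable {G : Type u} [Group G] [Finite G] {L K : Subgroup G}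

theorem nonempty_sl_five {F : Type*} [Field F] [Fintype F] (h : Fintype.card F = 5) :
    Nonempty (SL(2, F) ≃* SL(2, ZMod 5)) :=
  ⟨Classical.slMapEquiv (ZMod.ringEquivOfPrime F Nat.prime_five h).symm⟩

theorem eq_neg_one_five {g : SL(2, ZMod 5)} (h1 : g ≠ 1) (h2 : g * g = 1) : g = -1 :=
  have : Fact (Nat.Prime 5) := ⟨Nat.prime_five⟩
  Subtype.ext (Classical.sl2_eq_neg_one_of_mul_self (show (2 : ZMod 5) ≠ 0 from fun e => absurd
    (ZMod.val_ofNat 5 2 ▸ congrArg ZMod.val e) (by simp)) g h1 h2)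

theorem five_of_four (hA : All.{u}) {X : Type u} [Group X] [Finite X] [IsSimpleGroup X]
    (hn : ¬ IsMulCommutative X) (h : TI X) (T : Sylow 2 X) (h4 : Nat.card (T : Subgroup X) = 4) :
    ∃ (F : Type) (_ : Field F) (_ : Fintype F), Fintype.card F = 5 ∧ Nonempty (X ≃* PSL(2, F)) := by
  obtain ⟨F, _, _, h1, h2, ⟨e⟩⟩ := hA.ab.gw X inferInstance hn T h4
  exact ⟨F, _, _, five_of_ti h (ab2_of_sylow T
    (IsPGroup.isMulCommutative_of_card_eq_prime_sq (p := 2) h4)) h1 h2 e, ⟨e⟩⟩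

section comp

variable (hO : pPrimeCore 2 G = ⊥) (hL : IsComponent L)
include hO hL

theorem comp_qg {P : Subgroup G} (hP : IsSylowIn 2 P L) (h : ¬ Four P) :
    ∃ a b, QG P a b ∧ L ⊓ centralizer (L : Set G) = zpowers (b * b) := by
  obtain ⟨a, b, hq⟩ := exists_qg hP.pgroup h (comp_not_isCyclic hO hL hP)
  have key : ∀ c ∈ L ⊓ centralizer (L : Set G), c ≠ 1 → c = b * b := fun c hc h1 =>
    eq_of_not_four hP.pgroup h (comp_inf_le hO hL hP hc) (mul_mem hq.hb hq.hb) (sq_of_central hP.pgroup h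
      (comp_not_isCyclic hO hL hP) (comp_inf_le hO hL hP hc) (centralizer_le hP.le hc.2)) hq.four h1 hq.sq2
  refine ⟨a, b, hq, le_antisymm (fun c hc => ?_) (zpowers_le.mpr ?_)⟩
  · by_cases h1 : c = 1
    exacts [h1 ▸ one_mem _, key c hc h1 ▸ mem_zpowers _]
  by_contra e
  refine h (hP.map_toSylow ▸ ((comp_four_top hO hL hP).of_map fun x _ h1 => by_contra fun h2 => ?_).map _
    fun _ _ e => Subtype.ext e)
  have h3 : (x : G) ∈ L ⊓ centralizer (L : Set G) := ⟨x.2, (comp_tp_eq_one hO hL).mp h1⟩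
  exact e (key _ h3 (fun e => h2 (Subtype.ext e)) ▸ h3)

theorem comp_dih {P : Subgroup G} (hP : IsSylowIn 2 P L) {a b : G} (hq : QG P a b)
    (hz : b * b ∈ centralizer (L : Set G)) :
    (zpowers (tp L ⟨a, hP.le hq.ha⟩)).relIndex (tbar L P) = 2 ∧
      ∀ s ∈ tbar L P, s ∉ zpowers (tp L ⟨a, hP.le hq.ha⟩) → s * s = 1 := by
  refine ⟨relIndex_map_eq_two (tp L) (P := P.subgroupOf L) hq.ha ?_ (comp_four_top hO hL hP).not_isCyclic, ?_⟩
  · refine Eq.trans ?_ ((relIndex_subgroupOf hP.le).trans hq.idx)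
    congr 1
    rw [← map_subtype_inj, MonoidHom.map_zpowers, subgroupOf_map_subtype,
      inf_eq_left.mpr (zpowers_le.mpr (hP.le hq.ha))]
    rfl
  rintro _ ⟨s, hs, rfl⟩ h1
  obtain ⟨i, e | e⟩ := hq.all s hs
  · exact absurd ⟨i, (map_zpow _ _ _).symm.trans (congrArg _ (Subtype.ext e.symm))⟩ h1
  · rw [← map_mul, comp_tp_eq_one hO hL, coe_mul, e, hq.sq_out]
    exact hz

theorem comp_sl25 (hA : All.{u}) (hti : TI (Lt L)) (h : ∀ P, IsSylowIn 2 P L → ¬ Four P) :
    Nonempty (L ≃* SL(2, ZMod 5)) := by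
  obtain ⟨P, hP⟩ := exists_isSylowIn 2 L
  obtain ⟨a, b, hq, hz⟩ := comp_qg hO hL hP (h P hP)
  have hb : b * b ∈ L ⊓ centralizer (L : Set G) := hz ▸ mem_zpowers _
  obtain ⟨h1, h2⟩ := comp_dih hO hL hP hq hb.2
  obtain ⟨hs, hn⟩ := comp_top hO hL
  have hB := (bList_of_ti hA.ben hn hti).2
  set r := tp L ⟨a, hP.le hq.ha⟩
  have r2 : r * r = 1 := by
    have e := hB.central (tSyl hP) (tp L ⟨b, hP.le hq.hb⟩) (tp_mem_tb hq.hb)
      (by rw [← map_mul, comp_tp_eq_one hO hL]; exact hb.2) r (tp_mem_tb hq.ha)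
    rw [← mul_inv_eq_iff_eq_mul, ← map_inv, ← map_mul, ← map_mul] at e
    rw [← eq_inv_iff_mul_eq_one, ← map_inv]
    exact e.symm.trans (congrArg _ (Subtype.ext hq.inv))
  have h4 : Nat.card (tSyl hP : Subgroup (Lt L)) = 4 := by
    have h5 := card_mul_relIndex' (zpowers_le.mpr (tp_mem_tb hq.ha) : zpowers r ≤ tbar L P)
    have h6 := (hB.four_le (tSyl hP)).trans (card_le_of_le fun v hv => ((hB.mem_omega _).mp hv).1)
    have h7 : orderOf r ≤ 2 := orderOf_le_of_pow_eq_one two_pos (by rw [pow_two, r2])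
    rw [h1, Nat.card_zpowers] at h5
    rw [coe_tSyl] at h6 ⊢
    omega
  obtain ⟨F, _, _, h5, ⟨e⟩⟩ := five_of_four hA hn hti _ h4
  obtain ⟨e1⟩ := nonempty_sl_five h5
  have hk : (e.toMonoidHom.comp (tp L)).ker = (tp L).ker := MonoidHom.ker_mulEquiv_comp _ e
  obtain ⟨e2⟩ := GW.Cor.cover_SL2 (by rw [h5]; decide) (e.toMonoidHom.comp (tp L))
    (e.surjective.comp (tp_surjective L)) (hk ▸ comp_ker_le hO hL) (by
      rw [hk, QuotientGroup.ker_mk', comp_cbar hO hL, ← inf_subgroupOf_left, hz,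
        Nat.card_congr (subgroupOfEquivOfLe (hz ▸ inf_le_left)).toEquiv, Nat.card_zpowers,
        orderOf_two_of_mul_self hq.four hq.sq2]) fun x hx => by
      rw [← MonoidHom.mem_ker, hk, MonoidHom.mem_ker, comp_tp_eq_one hO hL]
      have x2 : (x : G) * x = 1 := congrArg Subtype.val hx
      obtain ⟨R, hR, h6⟩ := exists_isSylowIn_ge (isPGroup_two_zpowers x2) (zpowers_le.mpr x.2)
      by_cases h7 : (x : G) = 1
      · exact h7 ▸ one_mem _
      exact eq_of_not_four hR.pgroup (h R hR) (comp_inf_le hO hL hR hb) (h6 (mem_zpowers _)) hq.four x2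
        hq.sq2 h7 ▸ hb.2
  exact ⟨e2.trans e1⟩

theorem comp_exists_odd (hg : GT (Lt L)) {P : Subgroup G} (hP : IsSylowIn 2 P L) :
    ∃ n : L, (n : G) ∈ normalizer (P : Set G) ∧ ∀ k : ℕ, (n : G) ^ 2 ^ k ∉ centralizer (L : Set G) := by
  obtain ⟨g, hg1, hs⟩ := hg.exists_sing (tSyl hP)
  obtain ⟨n, rfl⟩ := tp_surjective L g
  have h1 := mem_normalizer_of_map (isPGroup_ker_tp (comp_ker hO hL)) hP.toSylow hg1
  refine ⟨n, mem_normalizer_of_forall fun x hx => hP.mem_toSylow.mp (conj_mem_of_mem_normalizer h1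
    (hP.mem_toSylow.mpr (show ((⟨x, hP.le hx⟩ : L) : G) ∈ P from hx))), fun k hk => ?_⟩
  have h2 := eq_one_of_odd_of_mem (isPGroup_zpowers_of_pow (k := k) (by
    rw [← map_pow, comp_tp_eq_one hO hL]; exact hk)) (mem_zpowers _) hs.odd
  have h3 := hs.cent
  have h4 := hg.four_le (tSyl hP)
  rw [h2, inf_eq_left.mpr fun x _ => mem_centralizer_singleton_iff.mpr (by simp)] at h3
  rw [h3, Subgroup.card_bot] at h4
  omega

variable (h : R1 G) (hK : IsComponent K) (hne : K ≠ L)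
include h hK hne

theorem two_not_four {P : Subgroup G} (hP : IsSylowIn 2 P L) : ¬ Four P :=
  comp_not_four_cent hO hK h hP.pgroup (hP.le.trans (comp_le_centralizer_of_ne hL hK hne.symm))

theorem two_ti : TI (Lt L) := by
  obtain ⟨P, hP⟩ := exists_isSylowIn 2 K
  obtain ⟨c, hc, h1⟩ := comp_exists_not_cent hO hK hP
  exact comp_ti hO hL h (isPGroup_zpowers_of_mem hP.pgroup hc) (comp_le_centralizer_of_ne hK hL hne (hP.le hc))
    fun e => h1 (comp_le_centralizer_of_ne hL hK hne.symm e)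

theorem two_mem {R P : Subgroup G} (hR : IsPGroup 2 R) (hP : IsSylowIn 2 P L) (hPR : P ≤ R) {c : G}
    (hc : c ∈ R) (h1 : c ∈ centralizer (L : Set G)) (h2 : c ∈ centralizer (K : Set G)) : c ∈ L :=
  by_contra fun e => by
    obtain ⟨v, hv, h3⟩ := comp_exists_not_cent hO hL hP
    exact comp_not_four_cent hO hK h (hR.to_le inf_le_left) inf_le_right (four_of_cent (hR.to_le inf_le_left)
      ⟨hPR hv, comp_le_centralizer_of_ne hL hK hne.symm (hP.le hv)⟩ ⟨hc, h2⟩ (hP.le hv) h3 h1 e)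

theorem two_cases {M : Subgroup G} (hM : IsComponent M) : M = L ∨ M = K := by
  by_contra! e
  obtain ⟨P, hP⟩ := exists_isSylowIn 2 L
  obtain ⟨R, hR⟩ := exists_isSylowIn 2 M
  obtain ⟨c, hc, h1⟩ := comp_exists_not_cent hO hM hR
  have h2 := hR.le.trans (comp_le_centralizer_of_ne hM hL e.1)
  exact h1 (comp_le_centralizer_of_ne hL hM e.1.symm (two_mem hO hL h hK hne (isPGroup_sup_of_cent hP.pgroup
    hR.pgroup (h2.trans (centralizer_le hP.le))) hP le_sup_left (mem_sup_right hc) (h2 hc)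
      (comp_le_centralizer_of_ne hM hK e.2 (hR.le hc))))

theorem two_layer : layer G = L ⊔ K :=
  le_antisymm (layer_le_iff.mpr fun _ hM => (two_cases hO hL h hK hne hM).elim
    (fun e => e.le.trans le_sup_left) fun e => e.le.trans le_sup_right)
    (sup_le (comp_le_layer hL) (comp_le_layer hK))

theorem two_out (hA : All.{u}) (S : Sylow 2 G) {s : G} (hs : s ∈ (S : Subgroup G)) :
    ∃ p ∈ (S : Subgroup G) ⊓ L, p⁻¹ * s ∈ centralizer (L : Set G) := by
  have := layer_normal (G := G)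
  have key : ∀ M : Subgroup G, IsComponent M → IsSylowIn 2 ((S : Subgroup G) ⊓ M) M := fun M hM => by
    have := (sylow_inf_normal S (layer G)).inf_of_le_normalizer (layer_le_normalizer_comp hM)
    rwa [inf_assoc, inf_eq_right.mpr (comp_le_layer hM)] at this
  have hP := key L hL
  have hR := key K hK
  have hKL := comp_le_centralizer_of_ne hK hL hne
  have hLK := comp_le_centralizer_of_ne hL hK hne.symm
  obtain ⟨v, hv, h1⟩ := comp_exists_not_cent hO hL hP
  obtain ⟨c, hc, h2⟩ := comp_exists_not_cent hO hK hR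
  have hle : (S : Subgroup G) ⊓ L ⊔ (S : Subgroup G) ⊓ K ≤ S := sup_le inf_le_left inf_le_left
  have h3 : L ⊓ normalizer (((S : Subgroup G) ⊓ L : Subgroup G) : Set G) ≤
      normalizer ((S : Subgroup G) : Set G) := (Coprime.le_normalizer_sup inf_le_right (inf_le_left.trans
    (hLK.trans ((centralizer_le inf_le_right).trans (centralizer_le_normalizer _))))).trans
    (h.uniq (four_of_cent (S.isPGroup'.to_le hle) (mem_sup_left hv) (mem_sup_right hc) hv.2 h1 (hKL hc.2)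
      fun e => h2 (hLK e)) hle).normalizer_le
  have hs1 := (comp_top hO hL).1
  have hg : GT (Lt L) := Or.inl (bList_of_ti hA.ben (comp_top hO hL).2 (two_ti hO hL h hK hne)).2
  refine comp_out hO hL hg S.isPGroup' hP inf_le_left (fun t ht => mem_normalizer_iff_cj.mpr
    ((two_cases hO hL h hK hne (comp_map_conj hL t)).resolve_right fun e => ?_)) h3 hs
  obtain ⟨n, h4, h5⟩ := comp_exists_odd hO hL hg hP
  have h6 : t * (n : G)⁻¹ * t⁻¹ ∈ centralizer (L : Set G) := hKL (e ▸ conj_mem_cj.mpr (inv_mem n.2))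
  obtain ⟨k, hk⟩ := isPGroup_iff_mem.mp S.isPGroup' _
    (mul_mem (conj_mem_of_mem_normalizer (h3 ⟨n.2, h4⟩) ht) (inv_mem ht))
  rw [show (n : G) * t * (n : G)⁻¹ * t⁻¹ = n * (t * (n : G)⁻¹ * t⁻¹) by group,
    Commute.mul_pow (h6 n n.2), mul_eq_one_iff_eq_inv] at hk
  exact h5 k (hk ▸ inv_mem (pow_mem h6 _))

theorem two_comp (hA : All.{u}) : Odd (layer G).index ∧
    ∃ (Z : Subgroup (SL(2, ZMod 5) × SL(2, ZMod 5))) (_ : Z.Normal), Z = zpowers (-1, -1) ∧
      Nonempty (layer G ≃* (SL(2, ZMod 5) × SL(2, ZMod 5)) ⧸ Z) := by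
  obtain ⟨S⟩ : Nonempty (Sylow 2 G) := inferInstance
  have hKL := comp_le_centralizer_of_ne hK hL hne
  have hLK := comp_le_centralizer_of_ne hL hK hne.symm
  refine ⟨odd_index_of_le S fun s hs => ?_, ?_⟩
  · obtain ⟨p, hp, h1⟩ := two_out hO hL h hK hne hA S hs
    obtain ⟨q, hq, h2⟩ := two_out hO hK h hL hne.symm hA S (mul_mem (inv_mem hp.1) hs)
    have := layer_normal (G := G)
    have h3 := (sylow_inf_normal S (layer G)).inf_of_le_normalizer (layer_le_normalizer_comp hL)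
    rw [inf_eq_right.mpr (comp_le_layer hL)] at h3
    have h4 := two_mem hO hL h hK hne S.isPGroup' h3 (inf_le_left.trans inf_le_left)
      (mul_mem (inv_mem hq.1) (mul_mem (inv_mem hp.1) hs)) (mul_mem (inv_mem (hKL hq.2)) h1) h2
    rw [show s = p * (q * (q⁻¹ * (p⁻¹ * s))) by group]
    exact mul_mem (comp_le_layer hL hp.2) (mul_mem (comp_le_layer hK hq.2) (comp_le_layer hL h4))
  obtain ⟨e1⟩ := comp_sl25 hO hL hA (two_ti hO hL h hK hne) fun _ => two_not_four hO hL h hK hne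
  obtain ⟨e2⟩ := comp_sl25 hO hK hA (two_ti hO hK h hL hne.symm) fun _ => two_not_four hO hK h hL hne.symm
  let φ := (L.subtype.comp e1.symm.toMonoidHom).noncommCoprod (K.subtype.comp e2.symm.toMonoidHom)
    fun a b => hKL (e2.symm b).2 _ (e1.symm a).2
  have hφ : ∀ a b, φ (a, b) = e1.symm a * e2.symm b := fun _ _ => rfl
  have hQ := comp_not_four_cent hO hL h (Core.isPGroup_pCore 2 G) (pCore_le_cent hO hL)
  have key : ∀ (M : Subgroup G) (e : M ≃* SL(2, ZMod 5)), IsComponent M →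
      (e.symm (-1) : G) ∈ pCore 2 G ∧ (e.symm (-1) : G) * e.symm (-1) = 1 ∧ (e.symm (-1) : G) ≠ 1 :=
    fun M e hM => ⟨comp_center_le hO hM ⟨(e.symm (-1)).2, fun x hx => by
      obtain ⟨y, hy⟩ := e.symm.surjective ⟨x, hx⟩
      rw [show x = e.symm y from congrArg Subtype.val hy.symm, ← coe_mul, ← coe_mul, ← map_mul, ← map_mul]
      simp⟩, by rw [← coe_mul, ← map_mul]; simp, fun e3 => absurd ((map_eq_one_iff _ e.symm.injective).mp
        (Subtype.ext e3)) (by decide)⟩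
  obtain ⟨a1, a2, a3⟩ := key L e1 hL
  obtain ⟨b1, b2, b3⟩ := key K e2 hK
  have h1 := eq_of_not_four (Core.isPGroup_pCore 2 G) hQ a1 b1 a2 b2 a3 b3
  have hk : zpowers (-1, -1) = φ.ker := by
    refine le_antisymm (zpowers_le.mpr (by rw [MonoidHom.mem_ker, hφ, ← h1, a2])) ?_
    rintro ⟨a, b⟩ hab
    rw [MonoidHom.mem_ker, hφ, mul_eq_one_iff_eq_inv] at hab
    by_cases h2 : a = 1
    · rw [h2, map_one, OneMemClass.coe_one, eq_comm, inv_eq_one] at hab
      rw [h2, (map_eq_one_iff _ e2.symm.injective).mp (Subtype.ext hab)]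
      exact one_mem _
    obtain ⟨P, hP⟩ := exists_isSylowIn 2 L
    have h3 : (e1.symm a : G) ∈ L ⊓ centralizer (L : Set G) :=
      mem_inf.mpr ⟨(e1.symm a).2, hab ▸ inv_mem (hKL (e2.symm b).2)⟩
    have h4 := sq_of_central hP.pgroup (two_not_four hO hL h hK hne hP) (comp_not_isCyclic hO hL hP)
      (comp_inf_le hO hL hP h3) (centralizer_le hP.le h3.2)
    obtain rfl := eq_neg_one_five h2 ((map_eq_one_iff _ e1.symm.injective).mp (by
      rw [map_mul]; exact Subtype.ext h4))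
    rw [h1, eq_comm, inv_eq_iff_eq_inv, inv_eq_of_mul_eq_one_right b2] at hab
    rw [e2.symm.injective (Subtype.ext hab)]
    exact mem_zpowers _
  have hr : layer G = φ.range := by
    rw [two_layer hO hL h hK hne]
    refine le_antisymm (sup_le (fun x hx => ⟨(e1 ⟨x, hx⟩, 1), by simp [hφ]⟩)
      fun x hx => ⟨(1, e2 ⟨x, hx⟩), by simp [hφ]⟩) ?_
    rintro _ ⟨⟨a, b⟩, rfl⟩
    exact mul_mem_sup (e1.symm a).2 (e2.symm b).2
  have : (zpowers ((-1, -1) : SL(2, ZMod 5) × SL(2, ZMod 5))).Normal := hk ▸ inferInstance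
  exact ⟨_, this, rfl, ⟨(MulEquiv.subgroupCongr hr).trans ((QuotientGroup.quotientKerEquivRange φ).symm.trans
    (QuotientGroup.quotientMulEquivOfEq hk.symm))⟩⟩

end comp

end CfsgLib.SylInt
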