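import Mathlib
import Cfsg.Agent.Lib.SylInt.Two

/-! Sylow 2-intersections of rank at most one: one component, and S3310. -/

set_option autoImplicit false
set_option linter.unusedSectionVars false

namespace CfsgLib.SylInt

open Subgroup Cfsg CfsgLib.PComp CfsgLib.Abel2 CfsgLib.Tech CfsgLib.Gold CfsgLib.Comp CfsgLib.Gold.Cor
open scoped commutatorElement MatrixGroups

universe u

/-- `P` contains an elementary abelian group of order at least 8 -/
def Eight {X : Type*} [Group X] (P : Subgroup X) : Prop :=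
  ∃ E ≤ P, (∀ e ∈ E, e * e = 1) ∧ 8 ≤ Nat.card E

variable {G : Type u} [Group G] [Finite G] {L : Subgroup G}

theorem four_of_card {E : Subgroup G} (hE : ∀ e ∈ E, e * e = 1) (h4 : 4 ≤ Nat.card E) : Four E := by
  obtain ⟨a, ha, h1, -⟩ := exists_ne_ne h4 1 1
  obtain ⟨b, hb, h2, h3, -⟩ := exists_ne_ne h4 a a
  exact ⟨a, ha, b, hb, hE a ha, hE b hb, mul_comm_of_comm (comm_of_elem hE) ha hb, h1, h2, h3.symm⟩

theorem eight_of {P : Subgroup G} {z x y : G} (hz : z ∈ P) (hx : x ∈ P) (hy : y ∈ P) (z2 : orderOf z = 2)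
    (x2 : orderOf x = 2) (y2 : y * y = 1) (h1 : z * x = x * z) (h2 : z * y = y * z) (h3 : x * y = y * x)
    (h4 : z ≠ x) (h5 : ¬ (y = 1 ∨ y = z ∨ y = x ∨ y = z * x)) : Eight P := by
  have hc := comm_inf_centralizer (closure ({z, x, y} : Set G))
  have key : ∀ w ∈ ({z, x, y} : Set G), w ∈ omegaOne 2 (closure ({z, x, y} : Set G) ⊓
      centralizer ((closure ({z, x, y} : Set G) : Subgroup G) : Set G)) := fun w hw => by
    refine (mem_omegaOne_two hc).mpr ⟨⟨subset_closure hw, ?_⟩, ?_⟩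
    · rw [centralizer_closure]
      rintro v (rfl | rfl | rfl) <;> rcases hw with rfl | rfl | rfl <;> simp [h1, h2, h3]
    · rcases hw with rfl | rfl | rfl
      exacts [mul_self_of_orderOf_two z2, mul_self_of_orderOf_two x2, y2]
  refine ⟨_, fun w hw => (closure_le P).mpr (by rintro v (rfl | rfl | rfl) <;> assumption)
    ((mem_omegaOne_two hc).mp hw).1.1, fun w hw => ((mem_omegaOne_two hc).mp hw).2, ?_⟩
  have h6 := card_mul_relIndex' ((closure_le _).mpr (by
    rintro v (rfl | rfl)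
    exacts [key _ (by simp), key _ (by simp)]) : closure ({z, x} : Set G) ≤ omegaOne 2
      (closure ({z, x, y} : Set G) ⊓ centralizer ((closure ({z, x, y} : Set G) : Subgroup G) : Set G)))
  rw [Invol.card_closure_pair_of_commute z2 x2 h4 h1] at h6
  have h7 : _ ≠ 1 := fun e => h5 ((Invol.mem_closure_pair_of_commute (mul_self_of_orderOf_two z2)
    (mul_self_of_orderOf_two x2) h1 y).mp (relIndex_eq_one.mp e (key y (by simp))))
  have h8 := Nat.card_pos (α := omegaOne 2 (closure ({z, x, y} : Set G) ⊓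
      centralizer ((closure ({z, x, y} : Set G) : Subgroup G) : Set G)))
  rw [← h6] at h8 ⊢
  generalize Subgroup.relIndex (G := G) _ _ = n at *
  omega

theorem Eight.of_map {Y : Type*} [Group Y] {P : Subgroup G} {f : G →* Y} (h : Eight (P.map f))
    (hf : ∀ x ∈ P, f x = 1 → x = 1) : Eight P := by
  obtain ⟨E, h1, h2, h3⟩ := h
  refine ⟨P ⊓ E.comap f, inf_le_left, fun e he => hf _ (mul_mem he.1 he.1) (by rw [map_mul, h2 _ he.2]),
    h3.trans (Nat.card_le_card_of_surjective (fun x => ⟨f x, x.2.2⟩) fun y => ?_)⟩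
  obtain ⟨x, hx, e⟩ := h1 y.2
  exact ⟨⟨x, hx, mem_comap.mpr (e ▸ y.2)⟩, Subtype.ext e⟩

theorem R1.le_cent (h : R1 G) (S : Sylow 2 G) (h8 : Eight (S : Subgroup G)) :
    (S : Subgroup G) ≤ centralizer (pPrimeCore 2 G : Set G) := by
  obtain ⟨E, h1, h2, h3⟩ := h8
  refine le_centralizer_of_isPGroup_of_coprime S.isPGroup' (Core.coprime_card_pPrimeCore 2 G)
    (normalizer_eq_top (pPrimeCore 2 G) ▸ le_top) (le_of_hyperplanes h2 (fun e => by simp [e] at h3)
      (Core.odd_card_oddCore G) (normalizer_eq_top (pPrimeCore 2 G) ▸ le_top) fun B hB hi => ?_)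
  have := card_mul_relIndex' hB
  exact inf_le_right.trans ((centralizer_le_normalizer _).trans (h.uniq
    (four_of_card (fun e he => h2 e (hB he)) (by rw [hi] at this; omega)) (hB.trans h1)).normalizer_le)

section comp

variable (hO : pPrimeCore 2 G = ⊥) (hL : IsComponent L)
include hO hL

theorem comp_eq_of_ti (hti : TI (Lt L)) {P P' : Subgroup G} (hP : IsSylowIn 2 P L) (hP' : IsSylowIn 2 P' L)
    {v : G} (h1 : v ∈ P) (h2 : v ∈ P') (h3 : v ∉ centralizer (L : Set G)) : P = P' := by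
  have e := hti (tSyl hP) (tSyl hP') (tp L ⟨v, hP.le h1⟩) (tp_mem_tb h1) (tp_mem_tb h2)
    fun e => h3 ((comp_tp_eq_one hO hL).mp e)
  exact (hP.eq_of_le hP'.pgroup (fun x hx => comp_mem_of_tp hO hL hP' (l := ⟨x, hP.le hx⟩)
    (coe_tSyl hP' ▸ e ▸ tp_mem_tb hx)) hP'.le).symm

theorem comp_eight (hg : GT (Lt L)) {P Q : Subgroup G} (hP : IsSylowIn 2 P L) (hQ : IsPGroup 2 Q)
    (h1 : L ⊓ centralizer (L : Set G) ≤ Q) (h2 : Q ≤ centralizer (L : Set G)) (h3 : ¬ Four Q)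
    (h4 : ¬ IsCyclic Q) : Eight (P ⊔ Q) := by
  obtain ⟨a, b, hq⟩ := exists_qg hQ h3 h4
  have hz : ∀ c ∈ L ⊓ centralizer (L : Set G), c * c = 1 := fun c hc =>
    sq_of_central hQ h3 h4 (h1 hc) (le_centralizer_iff.mp h2 hc.1)
  obtain ⟨_, ⟨v, hv, rfl⟩, _, ⟨w, hw, rfl⟩, v2, w2, vw, v1, w1, hne⟩ := four_of_card
    (fun e he => ((hg.mem_omega (tSyl hP)).mp he).2) (hg.four_le _) |>.mono
      fun e he => ((hg.mem_omega (tSyl hP)).mp he).1
  have v3 := orderOf_two_of_mul_self v2 v1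
  have e1 := comp_sq_eq hO hL hg hz (orderOf_two_of_mul_self w2 w1) v3
  have e2 := comp_sq_eq hO hL hg hz (v := v * w)
    (by rw [map_mul]; exact Invol.orderOf_mul_of_commute v2 w2 hne vw) v3
  have v4 : (v : G) * v ∈ L ⊓ centralizer (L : Set G) :=
    ⟨mul_mem v.2 v.2, (comp_tp_eq_one hO hL (l := v * v)).mp (by rw [map_mul, v2])⟩
  obtain ⟨p, hp, q, hq', e3, e4, e5⟩ : ∃ p ∈ Q, ∃ q ∈ Q, p * p = v * v ∧ q * q = v * v ∧
      p * q * (p * q) = v * v := by
    by_cases e : (v : G) * v = 1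
    · exact ⟨1, one_mem _, 1, one_mem _, by simp [e], by simp [e], by simp [e]⟩
    have e6 := eq_of_not_four hQ h3 (mul_mem hq.hb hq.hb) (h1 v4) hq.four (hz _ v4) hq.sq2 e
    obtain ⟨y, ⟨k, rfl⟩, h5, h6⟩ := exists_pow_sq_mem (N := ⊥) hQ (mul_mem hq.ha hq.ha) hq.sq
    refine ⟨a ^ k, zpow_mem hq.ha k, b, hq.hb, ((Commute.refl a).mul_zpow k).symm.trans ?_, e6,
      (hq.sq_out k).trans e6⟩
    exact eq_of_not_four hQ h3 (zpow_mem (mul_mem hq.ha hq.ha) k) (h1 v4) h6 (hz _ v4) h5 e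
  have key : ∀ (l : L) (c : G), c ∈ Q → c * c = v * v → (l : G) * l = v * v → l * c * (l * c) = 1 :=
    fun l c hc e6 e7 => by
      rw [mul_assoc, ← mul_assoc c, ← h2 hc l l.2, mul_assoc, ← mul_assoc, e6, e7, hz _ v4]
  have x2 := key v p hp e3 rfl
  have y2 := key w q hq' e4 e1
  have xy := key (v * w) (p * q) (mul_mem hp hq') e5 e2
  rw [coe_mul, show (v : G) * w * (p * q) = v * p * (w * q) by
    rw [mul_assoc, mul_assoc, ← mul_assoc (w : G), h2 hp w w.2, mul_assoc]] at xy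
  have hb : b * b ∈ centralizer (L : Set G) := h2 (mul_mem hq.hb hq.hb)
  have hc : ∀ c ∈ Q, b * b * c = c * (b * b) := fun c hc => by
    by_cases e : c * (b * b) * c⁻¹ = 1
    · exact absurd (by simpa using e) hq.sq2
    rw [← eq_of_not_four hQ h3 (mul_mem (mul_mem hc (mul_mem hq.hb hq.hb)) (inv_mem hc))
      (mul_mem hq.hb hq.hb) (conj_sq hq.four) hq.four e hq.sq2, inv_mul_cancel_right,
      eq_of_not_four hQ h3 (mul_mem (mul_mem hc (mul_mem hq.hb hq.hb)) (inv_mem hc))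
      (mul_mem hq.hb hq.hb) (conj_sq hq.four) hq.four e hq.sq2]
  have hzc : ∀ (l : L), ∀ c ∈ Q, b * b * (l * c) = l * c * (b * b) := fun l c hc' => by
    rw [← mul_assoc, ← hb l l.2, mul_assoc, hc c hc', mul_assoc]
  have hm : ∀ (l l' : L), ∀ c ∈ centralizer (L : Set G), ∀ c' ∈ centralizer (L : Set G),
      l * c = l' * c' → tp L l = tp L l' := fun l l' c hc c' hc' e => by
    rw [← inv_mul_eq_one, ← map_inv, ← map_mul, comp_tp_eq_one hO hL, coe_mul, coe_inv,
      show (l : G)⁻¹ * l' = c * c'⁻¹ by rw [inv_mul_eq_iff_eq_mul, ← mul_assoc, e, mul_inv_cancel_right]]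
    exact mul_mem hc (inv_mem hc')
  refine eight_of (x := v * p) (y := w * q) (mem_sup_right (mul_mem hq.hb hq.hb)) (mul_mem_sup hv hp)
    (mul_mem_sup hw hq')
    (orderOf_two_of_mul_self hq.four hq.sq2) (orderOf_two_of_mul_self x2 fun e =>
      v1 (hm v 1 p (h2 hp) 1 (one_mem _) (by simpa using e))) y2 (hzc v p hp) (hzc w q hq') ?_
      (fun e => v1 (hm v 1 p (h2 hp) _ hb (by simpa using e.symm))) ?_
  · rw [← inv_eq_of_mul_eq_one_right xy, mul_inv_rev, inv_eq_of_mul_eq_one_right x2,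
      inv_eq_of_mul_eq_one_right y2]
  · rintro (e | e | e | e)
    exacts [w1 (hm w 1 q (h2 hq') 1 (one_mem _) (by simpa using e)),
      w1 (hm w 1 q (h2 hq') _ hb (by simpa using e)), hne (hm w v q (h2 hq') p (h2 hp) e).symm,
      hne (hm w v q (h2 hq') _ (mul_mem (h2 hp) hb) (by rw [e, hzc v p hp, mul_assoc])).symm]

variable (hA : All.{u}) (h : R1 G) (hu : ∀ K : Subgroup G, IsComponent K → K = L)
include hA h hu

theorem one_not_quat (hQ : pCore 2 G ≤ L) (S : Sylow 2 G) (h4 : Four (S : Subgroup G)) :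
    Four ((S : Subgroup G) ⊓ L) := by_contra fun h5 => by
  obtain ⟨hN, hE⟩ := comp_normal_of_unique hL hu
  have hC : centralizer (L : Set G) ≤ pCore 2 G :=
    le_pCore_of_centralizes hO (hE ▸ le_rfl) (centralizer_le hQ)
  have hP := sylow_inf_normal S L
  obtain ⟨a, b, hq, hz⟩ := comp_qg hO hL hP h5
  have hb : b * b ∈ L ⊓ centralizer (L : Set G) := hz ▸ mem_zpowers _
  obtain ⟨c, hc, c2, hcL⟩ : ∃ c ∈ (S : Subgroup G), c * c = 1 ∧ c ∉ L := by
    by_contra! e
    obtain ⟨x, hx, y, hy, x2, y2, h6⟩ := h4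
    exact h5 ⟨x, ⟨hx, e x hx x2⟩, y, ⟨hy, e y hy y2⟩, x2, y2, h6⟩
  let π := QuotientGroup.mk' (centralizer (L : Set G))
  have hπ : Function.Surjective π := QuotientGroup.mk'_surjective _
  have hk : π.ker = centralizer (L : Set G) := QuotientGroup.ker_mk' _
  have hk2 : IsPGroup 2 π.ker := (Core.isPGroup_pCore 2 G).to_le (hk.le.trans hC)
  have hY := hN.map π hπ
  have hqs := qs_map hL.2 π fun e => comp_not_le_centralizer hL (hk ▸ (Subgroup.map_eq_bot_iff L).mp e)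
  have hCY : centralizer ((L.map π : Subgroup _) : Set (G ⧸ centralizer (L : Set G))) = ⊥ := by
    refine eq_bot_iff.mpr fun x hx => ?_
    obtain ⟨x, rfl⟩ := hπ x
    have := commutator_eq_bot_of_perfect (comp_perfect hL) (U := zpowers x) (by
      rw [commutator_eq_bot_iff_le_centralizer, ← hk, ← Subgroup.map_eq_bot_iff, map_commutator,
        commutator_eq_bot_iff_le_centralizer, MonoidHom.map_zpowers, zpowers_le]
      exact hx)
    rw [commutator_comm, commutator_eq_bot_iff_le_centralizer, zpowers_le, ← hk] at this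
    exact this
  have hs := isSimpleGroup_of_qs_of_center_eq_bot hqs (by
    rw [center_eq_subgroupOf_centralizer, hCY, bot_subgroupOf])
  have hn := qs_not_isMulCommutative hqs
  have hT : IsSylowIn 2 (((S : Subgroup G) ⊓ L).map π) (L.map π) := by
    have := sylow_inf_normal (S.mapSurjective hπ) (L.map π)
    rwa [show ((S.mapSurjective hπ : Sylow 2 _) : Subgroup _) ⊓ L.map π = ((S : Subgroup G) ⊓ L).map π from
      le_antisymm (by
        rintro _ ⟨h1, x, hx, rfl⟩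
        exact mem_map_of_mem π ⟨(comap_map_sylow hk2 S).le h1, hx⟩) (map_inf_le _ _ _)] at this
  refine no_outer hn hCY (good_of_ab2 hA.ab hs hn) (S.mapSurjective hπ) (a := π c) (r := π a)
    (by rw [← map_mul, c2, map_one]) (fun e => hcL ?_) ⟨zpowers_le.mpr (mem_map_of_mem π hc), fun U hU => ?_⟩
    hT (map_mono inf_le_left) (mem_map_of_mem π hq.ha) (relIndex_map_eq_two π hq.ha hq.idx fun e =>
      (four_of_simple hn hT.toSylow).not_isCyclic
        (isCyclic_of_surjective _ (subgroupOfEquivOfLe hT.le).symm.surjective)) ?_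
  · rw [← mem_comap, comap_map_eq, hk, sup_eq_left.mpr (hC.trans hQ)] at e
    exact e
  · obtain ⟨U, rfl⟩ := Sylow.mapSurjective_surjective hπ 2 U
    rw [h U S (four_of_commute (U.isPGroup'.to_le inf_le_left) (v := c) (c := b * b)
      ⟨(comap_map_sylow hk2 U).le (hU (mem_zpowers _)), hc⟩
      ⟨Core.pCore_le_sylow U (hC hb.2), Core.pCore_le_sylow S (hC hb.2)⟩ ?_
      (fun e => hcL (zpowers_le.mpr hb.1 e)) fun e => (mem_zpowers_two c2 e).elim hq.sq2 fun e => hcL (e ▸ hb.1))]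
    have e := eq_of_not_four hP.pgroup h5 (a := c * (b * b) * c⁻¹)
      (mem_inf.mpr ⟨mul_mem (mul_mem hc (mul_mem hq.hb.1 hq.hb.1)) (inv_mem hc), hN.conj_mem _ hb.1 c⟩)
      (mul_mem hq.hb hq.hb) (conj_sq hq.four) hq.four (by simpa using hq.sq2) hq.sq2
    exact mul_inv_eq_iff_eq_mul.mp e
  · rintro _ ⟨s, hs, rfl⟩ h1
    obtain ⟨i, rfl | rfl⟩ := hq.all s hs
    · exact absurd ⟨i, (map_zpow _ _ _).symm⟩ h1
    · rw [← map_mul, hq.sq_out, ← MonoidHom.mem_ker, hk]
      exact hb.2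

theorem one_cyclic (hQ : pCore 2 G ≤ L) (h4 : ∀ S : Sylow 2 G, Four (S : Subgroup G)) {S S' : Sylow 2 G}
    (hne : S ≠ S') : IsCyclic ↥((S : Subgroup G) ⊓ S') := by_contra fun hnc => by
  obtain ⟨hN, hE⟩ := comp_normal_of_unique hL hu
  have hC : centralizer (L : Set G) ≤ pCore 2 G :=
    le_pCore_of_centralizes hO (hE ▸ le_rfl) (centralizer_le hQ)
  have h5 := fun R => one_not_quat hO hL hA h hu hQ R (h4 R)
  have hg := comp_gt hO hL hA (comp_hasSC hO hL h (sylow_inf_normal S L) (h5 S))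
  have h6 : ∀ R : Sylow 2 G, IsSylowIn 2 (R : Subgroup G) L := fun R => IsSylowIn.of_sylow R fun s hs => by
    obtain ⟨p, hp, e⟩ := comp_out hO hL hg R.isPGroup' (sylow_inf_normal R L) inf_le_left
      (normalizer_eq_top L ▸ le_top) (inf_le_right.trans (h.uniq (h5 R) inf_le_left).normalizer_le) hs
    exact (mul_mem_cancel_left (inv_mem (mem_inf.mp hp).2)).mp (hQ (hC e))
  have hD := S.isPGroup'.to_le (inf_le_left (b := (S' : Subgroup G)))
  have h7 : ¬ Four ((S : Subgroup G) ⊓ S') := fun e => hne (h _ _ e)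
  obtain ⟨a, b, hq⟩ := exists_qg hD h7 hnc
  have hDL := inf_le_left.trans (h6 S).le (a := (S : Subgroup G) ⊓ S')
  have hb : b ∉ centralizer (L : Set G) := fun e => hq.sq2 (sq_of_central hD h7 hnc hq.hb (centralizer_le hDL e))
  rcases id hg with hB | hB
  · exact hne (Sylow.ext (comp_eq_of_ti hO hL (ti_of_btype hB) (h6 S) (h6 S') hq.hb.1 hq.hb.2 hb))
  obtain ⟨v, hv, v2, h8⟩ : ∃ v ∈ (S : Subgroup G), v * v = 1 ∧ v ∉ centralizer (L : Set G) := by
    by_contra! e
    obtain ⟨x, hx, y, hy, x2, y2, h8⟩ := h4 S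
    exact comp_not_four_cent hO hL h (Core.isPGroup_pCore 2 G) (pCore_le_cent hO hL)
      ⟨x, hC (e x hx x2), y, hC (e y hy y2), x2, y2, h8⟩
  refine hq.sq2 ((comp_sq_eq hO hL hg (fun c hc => sq_of_central hD h7 hnc
    ⟨Core.pCore_le_sylow S (hC hc.2), Core.pCore_le_sylow S' (hC hc.2)⟩ (centralizer_le hDL hc.2))
    (v := ⟨b, hDL hq.hb⟩) (w := ⟨v, (h6 S).le hv⟩) (orderOf_two_of_mul_self
      (hB.good.elem (tSyl (h6 S)) _ (tp_mem_tb hq.hb.1)) fun e => hb ((comp_tp_eq_one hO hL).mp e))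
    (orderOf_two_of_mul_self (hB.good.elem (tSyl (h6 S)) _ (tp_mem_tb hv))
      fun e => h8 ((comp_tp_eq_one hO hL).mp e))).trans v2)

theorem one_comp (h4 : ∀ S : Sylow 2 G, Four (S : Subgroup G)) {S S' : Sylow 2 G} (hne : S ≠ S')
    (hnc : ¬ IsCyclic ↥((S : Subgroup G) ⊓ S')) : BList (Lt L) ∧ ¬ IsCyclic (pCore 2 G) ∧
      ∀ R : Sylow 2 G, (R : Subgroup G) ≤ L ⊔ pCore 2 G ∧ Eight (R : Subgroup G) := by
  obtain ⟨hN, hE⟩ := comp_normal_of_unique hL hu
  obtain ⟨c, hc, h1⟩ : ∃ c ∈ pCore 2 G, c ∉ L := by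
    by_contra! e
    exact hnc (one_cyclic hO hL hA h hu e h4 hne)
  have hQ := pCore_le_cent hO hL
  have hti := comp_ti hO hL h (isPGroup_zpowers_of_mem (Core.isPGroup_pCore 2 G) hc) (hQ hc) h1
  have hs := (comp_top hO hL).1
  obtain ⟨h2, hB⟩ := bList_of_ti hA.ben (comp_top hO hL).2 hti
  have hle : ∀ R : Sylow 2 G, (R : Subgroup G) ⊓ L ⊔ pCore 2 G ≤ R := fun R =>
    sup_le inf_le_left (Core.pCore_le_sylow R)
  have hU : ∀ R : Sylow 2 G, Uniq ((R : Subgroup G) ⊓ L ⊔ pCore 2 G) R := fun R => by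
    obtain ⟨v, hv, h3⟩ := comp_exists_not_cent hO hL (sylow_inf_normal R L)
    exact h.uniq (four_of_cent (R.isPGroup'.to_le (hle R)) (mem_sup_left hv) (mem_sup_right hc) hv.2 h3
      (hQ hc) h1) (hle R)
  have hn : ∀ R : Sylow 2 G, normalizer (((R : Subgroup G) ⊓ L : Subgroup G) : Set G) ≤
      normalizer ((R : Subgroup G) : Set G) := fun R =>
    (Coprime.le_normalizer_sup le_rfl (normalizer_eq_top (pCore 2 G) ▸ le_top)).trans (hU R).normalizer_le
  have hdec : ∀ R : Sylow 2 G, ∀ s ∈ (R : Subgroup G), ∃ p ∈ (R : Subgroup G) ⊓ L, p⁻¹ * s ∈ pCore 2 G :=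
    fun R s hs => by
      obtain ⟨p, hp, e⟩ := comp_out hO hL (Or.inl hB) R.isPGroup' (sylow_inf_normal R L) inf_le_left
        (normalizer_eq_top L ▸ le_top) (inf_le_right.trans (hn R)) hs
      exact ⟨p, hp, Core.map_pCore_le_of_normal (centralizer (L : Set G)) (Core.le_map_pCore inf_le_right
        (Coprime.le_normalizer_inf (((centralizer_le inf_le_right).trans (centralizer_le_normalizer _)).trans
          (hn R)) le_normalizer) (R.isPGroup'.to_le inf_le_left) (mem_inf.mpr ⟨mul_mem (inv_mem (mem_inf.mp hp).1) hs, e⟩))⟩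
  have h5 : ¬ IsCyclic (pCore 2 G) := fun e => hnc (isCyclic_of_le (H' := pCore 2 G) fun d hd => by
    obtain ⟨p, hp, e1⟩ := hdec S d hd.1
    have h6 : p ∈ (S' : Subgroup G) := by
      simpa using mul_mem (mem_inf.mp hd).2 (inv_mem (Core.pCore_le_sylow S' e1))
    refine (mul_mem_cancel_left (inv_mem (comp_center_le hO hL ⟨hp.2, by_contra fun e2 => hne ?_⟩))).mp e1
    exact ((hU S).2 S' (comp_eq_of_ti hO hL hti (sylow_inf_normal S L) (sylow_inf_normal S' L) hp
      ⟨h6, hp.2⟩ e2 ▸ hle S')).symm)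
  refine ⟨h2, h5, fun R => ⟨fun s hs => ?_, ?_⟩⟩
  · obtain ⟨p, hp, e⟩ := hdec R s hs
    exact mul_inv_cancel_left p s ▸ mul_mem_sup hp.2 e
  · obtain ⟨E, h6, h7⟩ := comp_eight hO hL (Or.inl hB) (sylow_inf_normal R L) (Core.isPGroup_pCore 2 G)
      (comp_center_le hO hL) hQ (comp_not_four_cent hO hL h (Core.isPGroup_pCore 2 G) hQ) h5
    exact ⟨E, h6.trans (hle R), h7⟩

end comp

theorem nonempty_quot_comap' {H : Type*} [Group H] {f : G →* H} (hf : Function.Surjective f)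
    (M N : Subgroup H) [(N.subgroupOf M).Normal] [((N.comap f).subgroupOf (M.comap f)).Normal] :
    Nonempty (M.comap f ⧸ (N.comap f).subgroupOf (M.comap f) ≃* M ⧸ N.subgroupOf M) := by
  let g := (QuotientGroup.mk' (N.subgroupOf M)).comp (f.subgroupComap M)
  have hk : (N.comap f).subgroupOf (M.comap f) = g.ker := by
    ext x
    rw [MonoidHom.mem_ker, MonoidHom.comp_apply, QuotientGroup.mk'_apply, QuotientGroup.eq_one_iff]
    rfl
  exact ⟨(QuotientGroup.quotientMulEquivOfEq hk).trans (QuotientGroup.quotientKerEquivOfSurjective g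
    ((QuotientGroup.mk'_surjective _).comp (f.subgroupComap_surjective_of_surjective M hf)))⟩

/-- a Sylow subgroup that centralizes `O(G)` covers `O₂(G/O(G))` by `O₂(G)` -/
theorem comap_pCore_of_cent (S : Sylow 2 G) (h : (S : Subgroup G) ≤ centralizer (pPrimeCore 2 G : Set G)) :
    (pCore 2 (G ⧸ pPrimeCore 2 G)).comap (QuotientGroup.mk' _) = pCore 2 G ⊔ pPrimeCore 2 G := by
  have hπ := QuotientGroup.mk'_surjective (pPrimeCore 2 G)
  refine le_antisymm ?_ (sup_le (map_le_iff_le_comap.mp (Core.map_pCore_le hπ))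
    (QuotientGroup.le_comap_mk' _ _))
  set N := (pCore 2 (G ⧸ pPrimeCore 2 G)).comap (QuotientGroup.mk' _)
  have hP := sylow_inf_normal S N
  have h1 : N ≤ (S : Subgroup G) ⊓ N ⊔ pPrimeCore 2 G := fun x hx => by
    obtain ⟨s, hs, e⟩ := Core.pCore_le_sylow (S.mapSurjective hπ) hx
    have h2 : s⁻¹ * x ∈ pPrimeCore 2 G := QuotientGroup.eq.mp e
    exact mul_inv_cancel_left s x ▸ mul_mem_sup ⟨hs, mem_comap.mpr (e ▸ hx)⟩ h2
  have h2 : N ≤ normalizer (((S : Subgroup G) ⊓ N : Subgroup G) : Set G) := h1.trans (sup_le le_normalizer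
    ((le_centralizer_iff.mp (inf_le_left.trans h)).trans (centralizer_le_normalizer _)))
  have : ((S : Subgroup G) ⊓ N).Normal := normalizer_eq_top_iff.mp (eq_top_iff.mpr fun g _ =>
    mem_normalizer_iff_cj.mpr (hP.eq_of_le (isPGroup_cj g hP.pgroup) ((hP.cj_of_mem_normalizer
      (normalizer_eq_top N ▸ mem_top g)).le_of_le_normalizer hP.pgroup hP.le h2)
      (hP.cj_of_mem_normalizer (normalizer_eq_top N ▸ mem_top g)).le))
  exact h1.trans (sup_le_sup_right (Core.le_pCore hP.pgroup) _)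

theorem nonempty_sup_quot (hO : pPrimeCore 2 G = ⊥) (hL : IsComponent L) :
    Nonempty (↥(L ⊔ pCore 2 G) ⧸ (pCore 2 G).subgroupOf (L ⊔ pCore 2 G) ≃* Lt L) :=
  ⟨(QuotientGroup.quotientInfEquivProdNormalQuotient L (pCore 2 G)).symm.trans
    (QuotientGroup.quotientMulEquivOfEq (by
      ext x
      rw [comp_cbar hO hL, mem_subgroupOf, mem_subgroupOf]
      exact ⟨fun e => pCore_le_cent hO hL e, fun e => comp_center_le hO hL ⟨x.2, e⟩⟩))⟩

theorem four_of_not_solvable (hns : ¬ Group.IsSolvable G) (S : Sylow 2 G)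
    (hnQ : ∀ n : ℕ, IsEmpty (↥(S : Subgroup G) ≃* QuaternionGroup (2 ^ (n + 1)))) :
    Four (S : Subgroup G) := by_contra fun h => by
  obtain ⟨n, ⟨e⟩⟩ := quat_of_not_four S.isPGroup' h fun hc => by
    obtain ⟨N, hN, h1⟩ := Invol.exists_normal_complement_of_isCyclic S hc
    have := Coprime.isSolvable_of_isPGroup S.isPGroup'
    exact hns (CIT.App.isSolvable_of_normal_of_quotient N
      (FT.odd_subgroup_solvable (Invol.odd_of_isComplement' S h1).1)
      (Group.isSolvable_of_surjective (f := h1.symm.QuotientMulEquiv.symm.toMonoidHom) (MulEquiv.surjective _)))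
  exact (hnQ n).false e

theorem s3310 (hA : All.{u}) (hns : ¬ Group.IsSolvable G)
    (hI : ∀ S T : Sylow 2 G, S ≠ T → PRankLE 2 1 ↥((S : Subgroup G) ⊓ (T : Subgroup G)))
    (hnC : ∃ S T : Sylow 2 (G ⧸ oddCore G), S ≠ T ∧
      ¬ IsCyclic ↥((S : Subgroup (G ⧸ oddCore G)) ⊓ (T : Subgroup (G ⧸ oddCore G))))
    (hnQ : ∀ S : Sylow 2 G, ∀ n : ℕ, IsEmpty (↥(S : Subgroup G) ≃* QuaternionGroup (2 ^ (n + 1)))) :
    (∃ (G₁ : Subgroup G) (_ : G₁.Normal) (_ : ((pCore 2 G ⊔ oddCore G).subgroupOf G₁).Normal),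
      Odd G₁.index ∧ pCore 2 G ⊔ oddCore G ≤ G₁ ∧
      (∃ n : ℕ, Nonempty (↥(pCore 2 G) ≃* QuaternionGroup (2 ^ (n + 1)))) ∧
      BList (G₁ ⧸ (pCore 2 G ⊔ oddCore G).subgroupOf G₁)) ∨
    (∃ (G₁ : Subgroup G) (_ : G₁.Normal) (_ : ((oddCore G).subgroupOf G₁).Normal),
      (Odd G₁.index ∨ ∃ k : ℕ, Odd k ∧ G₁.index = 2 * k) ∧ oddCore G ≤ G₁ ∧
      ∃ (Z : Subgroup (SL(2, ZMod 5) × SL(2, ZMod 5))) (_ : Z.Normal), Z = zpowers (-1, -1) ∧
        Nonempty (G₁ ⧸ (oddCore G).subgroupOf G₁ ≃* (SL(2, ZMod 5) × SL(2, ZMod 5)) ⧸ Z)) := by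
  have hπ := QuotientGroup.mk'_surjective (pPrimeCore 2 G)
  have h : R1 G := fun S T h4 => by_contra fun e => not_four_iff.mpr (hI S T e) h4
  have hO := Core.pPrimeCore_quotient_pPrimeCore 2 G
  have hns' := GW.Cor.not_solvable_quot hns
  obtain ⟨L, hL⟩ := exists_comp hO hns'
    (isSolvable_mulAut (Core.isPGroup_pCore 2 _) (h.quot.not_four_pCore hns'))
  by_cases hu : ∀ K, IsComponent K → K = L
  · obtain ⟨S, T, hne, hnc⟩ := hnC
    obtain ⟨h1, h2, h3⟩ := one_comp hO hL hA h.quot hu (fun R => by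
      obtain ⟨R, rfl⟩ := Sylow.mapSurjective_surjective hπ 2 R
      exact (four_of_not_solvable hns R (hnQ R)).map _ fun x => eq_one_of_mem_core R.isPGroup') hne hnc
    have := (comp_normal_of_unique hL hu).1
    obtain ⟨R, rfl⟩ := Sylow.mapSurjective_surjective hπ 2 S
    have h4 := comap_pCore_of_cent R (h.le_cent R ((h3 (R.mapSurjective hπ)).2.of_map fun x => eq_one_of_mem_core R.isPGroup'))
    obtain ⟨e1⟩ := nonempty_quot_comap' hπ (L ⊔ pCore 2 _) (pCore 2 _)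
    obtain ⟨e2⟩ := nonempty_sup_quot hO hL
    refine Or.inl ⟨(L ⊔ pCore 2 _).comap (QuotientGroup.mk' _), inferInstance, inferInstance, ?_,
      h4 ▸ comap_mono le_sup_right, quat_of_not_four (Core.isPGroup_pCore 2 G) (h.not_four_pCore hns)
        fun e => h2 ?_, h1.of_equiv ((QuotientGroup.quotientMulEquivOfEq (by rw [h4])).trans (e1.trans e2))⟩
    · rw [index_comap_of_surjective _ hπ]
      exact odd_index_of_le _ (h3 T).1
    · rw [← map_comap_eq_self_of_surjective hπ (pCore 2 _), h4, Subgroup.map_sup, QuotientGroup.map_mk'_self,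
        sup_bot_eq]
      exact isCyclic_of_surjective _ ((QuotientGroup.mk' _).subgroupMap_surjective _)
  push Not at hu
  obtain ⟨K, hK, hne⟩ := hu
  obtain ⟨h1, Z, hZ, h2, ⟨e1⟩⟩ := two_comp hO hL h.quot hK hne hA
  have := layer_normal (G := G ⧸ pPrimeCore 2 G)
  obtain ⟨e2⟩ := GW.Cor.nonempty_quot_comap (pPrimeCore 2 G) (layer _)
  exact Or.inr ⟨(layer _).comap (QuotientGroup.mk' _), inferInstance, inferInstance,
    Or.inl (by rwa [index_comap_of_surjective _ hπ]), QuotientGroup.le_comap_mk' _ _, Z, hZ, h2, ⟨e2.trans e1⟩⟩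

end CfsgLib.SylInt
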