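import Mathlib
import Cfsg.Agent.Lib.SylInt.One

/-! Groups with central Sylow 2-intersections: the structure modulo `O(G)`. -/

set_option autoImplicit false
set_option linter.unusedSectionVars false

namespace CfsgLib.SylInt

open Subgroup Cfsg CfsgLib.PComp CfsgLib.Abel2 CfsgLib.Tech CfsgLib.Gold CfsgLib.Comp CfsgLib.Gold.Cor
open scoped commutatorElement MatrixGroups

universe u

/-- intersections of distinct Sylow 2-subgroups are central -/
def CI (X : Type*) [Group X] : Prop :=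
  ∀ S T : Sylow 2 X, S ≠ T → (S : Subgroup X) ⊓ T ≤ centralizer ((S : Subgroup X) : Set X)

variable {G : Type u} [Group G] [Finite G] {L : Subgroup G}

theorem ci_of (hCI : ∀ S T : Sylow 2 G, S ≠ T → ∃ U : Sylow 2 G, (S : Subgroup G) ⊓ (T : Subgroup G) ≤
    (center ↥(U : Subgroup G)).map (U : Subgroup G).subtype) : CI G := fun S T h =>
  (((Cfsg.Agent.S3183.result hCI S).2 T h.symm).trans inf_le_left).trans ((map_center_subtype _).le.trans inf_le_right)

theorem CI.uniq (h : CI G) {P : Subgroup G} {S : Sylow 2 G} (hP : P ≤ S)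
    (hn : ¬ P ≤ centralizer ((S : Subgroup G) : Set G)) : Uniq P S :=
  ⟨hP, fun T hT => by_contra fun e => hn ((le_inf hP hT).trans (h S T (Ne.symm e)))⟩

theorem CI.of_injective {X Y : Type*} [Group X] [Group Y] [Finite X] [Finite Y] (h : CI X) (f : Y →* X)
    (hf : Function.Injective f) : CI Y := fun S T hne x hx y hy => by
  obtain ⟨S', hS⟩ := (S.isPGroup'.map f).exists_le_sylow
  obtain ⟨T', hT⟩ := (T.isPGroup'.map f).exists_le_sylow
  apply hf
  rw [map_mul, map_mul]
  refine h S' T' (fun e => hne ?_) ⟨hS (mem_map_of_mem f hx.1), hT (mem_map_of_mem f hx.2)⟩ _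
    (hS (mem_map_of_mem f hy))
  subst e
  have h2 := S'.isPGroup'.comap_of_injective f hf
  exact Sylow.ext ((S.is_maximal' h2 (map_le_iff_le_comap.mp hS)).symm.trans
    (T.is_maximal' h2 (map_le_iff_le_comap.mp hT)))

theorem CI.of_surjective {X Y : Type*} [Group X] [Group Y] [Finite X] (h : CI X) {f : X →* Y}
    (hf : Function.Surjective f) : CI Y := fun S T hne => by
  obtain ⟨S', T', rfl, rfl, e⟩ := exists_inf_lift hf S T
  rw [← e]
  rintro _ ⟨x, hx, rfl⟩ _ ⟨y, hy, rfl⟩
  rw [← map_mul, ← map_mul, h S' T' (fun e => hne (by rw [e])) hx y hy]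

theorem CI.hasSC (h : CI G) [IsSimpleGroup G] (hn : ¬ IsMulCommutative G) : HasSC G := by
  obtain ⟨S⟩ : Nonempty (Sylow 2 G) := inferInstance
  exact hasSC_of S (Core.inf_centralizer_ne_bot_of_isPGroup S.isPGroup' S.isPGroup' le_normalizer
    (sylow_ne_bot hn S)) (comm_inf_centralizer _) (hasSC_of_ci (fun S T e => ⟨S,
      (le_inf inf_le_left (h S T e)).trans (map_center_subtype _).ge⟩) S)

theorem comp_sylow_inf (hL : IsComponent L) (S : Sylow 2 G) : IsSylowIn 2 ((S : Subgroup G) ⊓ L) L := by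
  have := layer_normal (G := G)
  have := (sylow_inf_normal S (layer G)).inf_of_le_normalizer (layer_le_normalizer_comp hL)
  rwa [inf_assoc, inf_eq_right.mpr (comp_le_layer hL)] at this

section comp

variable (hO : pPrimeCore 2 G = ⊥) (hL : IsComponent L)
include hO hL

theorem comp_lift_norm {P : Subgroup G} (hP : IsSylowIn 2 P L) {n : L}
    (hn : tp L n ∈ normalizer ((tSyl hP : Subgroup (Lt L)) : Set (Lt L))) : (n : G) ∈ normalizer (P : Set G) :=
  have h1 := mem_normalizer_of_map (isPGroup_ker_tp (comp_ker hO hL)) hP.toSylow hn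
  mem_normalizer_of_forall fun x hx => hP.mem_toSylow.mp (conj_mem_of_mem_normalizer h1
    (hP.mem_toSylow.mpr (show ((⟨x, hP.le hx⟩ : L) : G) ∈ P from hx)))

variable (h : CI G)
include h

theorem ci_gt (hA : All.{u}) : GT (Lt L) :=
  have := (comp_top hO hL).1
  comp_gt hO hL hA (((h.of_injective _ L.subtype_injective).of_surjective (tp_surjective L)).hasSC
    (comp_top hO hL).2)

theorem ci_cent (S : Sylow 2 G) :
    (S : Subgroup G) ⊓ centralizer (L : Set G) ≤ centralizer ((S : Subgroup G) : Set G) := by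
  have hP := comp_sylow_inf hL S
  obtain ⟨v, hv, h1⟩ := comp_exists_not_cent hO hL hP
  obtain ⟨g, hg, h2⟩ := SetLike.not_le_iff_exists.mp (comp_not_normalizer hL hP.pgroup hP.le fun e => h1 (e hv))
  refine le_trans (le_inf inf_le_left fun c hc => ?_) (h S (g • S) fun e => h2
    (Coprime.le_normalizer_inf (zpowers_le.mpr (Sylow.smul_eq_iff_mem_normalizer.mp e.symm))
      (zpowers_le.mpr (le_normalizer hg)) (mem_zpowers g)))
  rw [coe_smul_sylow, mem_cj, mul_assoc, ← hc.2 g hg, inv_mul_cancel_left]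
  exact hc.1

variable (hA : All.{u}) (hS : ∀ S : Sylow 2 G, ¬ IsMulCommutative (S : Subgroup G))
include hA hS

theorem ci_not_le (S : Sylow 2 G) : ¬ (S : Subgroup G) ⊓ L ≤ centralizer ((S : Subgroup G) : Set G) :=
    fun h1 => hS S (le_centralizer_iff_isMulCommutative.mp fun s hs => by
  have hP := comp_sylow_inf hL S
  obtain ⟨v, hv, h2⟩ := comp_exists_not_cent hO hL hP
  have h3 : s ∈ normalizer (L : Set G) := mem_normalizer_iff_cj.mpr (by_contra fun e => h2
    (comp_le_centralizer_of_ne (comp_map_conj hL s) hL e (mem_cj.mpr (by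
      rw [mul_assoc, ← h1 hv s hs, inv_mul_cancel_left]; exact hv.2))))
  obtain ⟨k, hk⟩ := isPGroup_iff_mem.mp S.isPGroup' s hs
  have h4 : ∀ t ∈ (tSyl hP : Subgroup (Lt L)), tact L ⟨s, h3⟩ t = t := fun t ht =>
    tact_fix_tb h3 (le_centralizer_iff.mp h1 hs) ht
  obtain ⟨_, ⟨p, hp, rfl⟩, e⟩ := (ci_gt hO hL h hA).inner (tSyl hP) (φ := tact L ⟨s, h3⟩) (k := k)
    (by rw [← map_pow]; exact (congrArg _ (Subtype.ext hk)).trans (map_one _))
    (fun t ht => by rw [h4 t ht, mul_inv_cancel]; exact one_mem _)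
    fun v hv => h4 v (((ci_gt hO hL h hA).mem_omega _).mp hv).1
  rw [tact_eq_conj_iff (comp_pqs hO hL), comp_cbar hO hL] at e
  exact mul_inv_cancel_left (p : G) s ▸ mul_mem (h1 hp)
    (ci_cent hO hL h S (mem_inf.mpr ⟨mul_mem (inv_mem (mem_inf.mp hp).1) hs, e⟩)))

theorem ci_normal : L.Normal := (comp_normal_of_unique hL fun K hK => by_contra fun e => by
  obtain ⟨S⟩ : Nonempty (Sylow 2 G) := inferInstance
  exact ci_not_le hO hL h hA hS S ((inf_le_inf_left _ (comp_le_centralizer_of_ne hL hK (Ne.symm e))).trans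
    (ci_cent hO hK h S))).1

theorem ci_dec (S : Sylow 2 G) {s : G} (hs : s ∈ (S : Subgroup G)) :
    ∃ p ∈ (S : Subgroup G) ⊓ L, p⁻¹ * s ∈ pCore 2 G := by
  have := ci_normal hO hL h hA hS
  have hn := (h.uniq inf_le_left (ci_not_le hO hL h hA hS S)).normalizer_le
  obtain ⟨p, hp, e⟩ := comp_out hO hL (ci_gt hO hL h hA) S.isPGroup' (sylow_inf_normal S L) inf_le_left
    (normalizer_eq_top L ▸ le_top) (inf_le_right.trans hn) hs
  exact ⟨p, hp, Core.map_pCore_le_of_normal (centralizer (L : Set G)) (Core.le_map_pCore inf_le_right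
    (Coprime.le_normalizer_inf (((centralizer_le inf_le_right).trans (centralizer_le_normalizer _)).trans hn)
      le_normalizer) (S.isPGroup'.to_le inf_le_left)
      (mem_inf.mpr ⟨mul_mem (inv_mem (mem_inf.mp hp).1) hs, e⟩))⟩

theorem ci_not_comm {P : Subgroup G} (hP : IsSylowIn 2 P L) : ¬ P ≤ centralizer (P : Set G) := fun h1 => by
  obtain ⟨S, h2⟩ := hP.pgroup.exists_le_sylow
  obtain rfl := hP.eq_of_le (S.isPGroup'.to_le inf_le_left) (le_inf h2 hP.le) inf_le_right
  refine ci_not_le hO hL h hA hS S (le_centralizer_iff.mp fun s hs => ?_)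
  obtain ⟨p, hp, e⟩ := ci_dec hO hL h hA hS S hs
  exact mul_inv_cancel_left p s ▸ mul_mem (h1 hp) (centralizer_le inf_le_right (pCore_le_cent hO hL e))

theorem ci_ti : TI (Lt L) := by
  rcases ci_gt hO hL h hA with hB | hB
  · exact ti_of_btype hB
  intro S T v h1 h2 h3
  obtain ⟨P, hP, rfl⟩ := comp_exists_sylow hO hL S
  obtain ⟨P', hP', rfl⟩ := comp_exists_sylow hO hL T
  obtain ⟨v, rfl⟩ := tp_surjective L v
  by_contra hne
  have h4 : (v : G) ∈ centralizer (P : Set G) := fun x hx => congrArg Subtype.val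
    ((h.of_injective _ L.subtype_injective) hP.toSylow hP'.toSylow (fun e => hne (by rw [tSyl, e, tSyl]))
      ⟨hP.mem_toSylow.mpr (comp_mem_of_tp hO hL hP h1), hP'.mem_toSylow.mpr (comp_mem_of_tp hO hL hP' h2)⟩
      ⟨x, hP.le hx⟩ hx)
  have h5 := GT.omega_le (Or.inr hB) (tSyl hP) (B := tbar L (P ⊓ centralizer (P : Set G))) (tb_mono inf_le_left)
    (fun e => h3 (mem_bot.mp (e ▸ tp_mem_tb ⟨comp_mem_of_tp hO hL hP h1, h4⟩))) fun n hn => by
      obtain ⟨n, rfl⟩ := tp_surjective L n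
      exact tb_le_normalizer (A := normalizer (P : Set G)) (Coprime.le_normalizer_inf le_rfl
        (Core.normalizer_le_normalizer_centralizer _)) (tp_mem_tb (comp_lift_norm hO hL hP hn))
  rw [hB.omega_eq] at h5
  refine ci_not_comm hO hL h hA hS hP fun x hx => ?_
  have := mem_sup_of_tp_mem (h5 (tp_mem_tb (l := ⟨x, hP.le hx⟩) hx))
  rw [comp_cbar hO hL] at this
  exact sup_le (inf_le_left.trans inf_le_right) (inf_le_right.trans (centralizer_le hP.le)) this

end comp

theorem ci_exists_comp (hO : pPrimeCore 2 G = ⊥) (h : CI G) {S : Sylow 2 G} (h1 : ¬ (S : Subgroup G).Normal)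
    (hS : ¬ IsMulCommutative (S : Subgroup G)) :
    IsMulCommutative (pCore 2 G) ∧ ∃ L : Subgroup G, IsComponent L := by
  obtain ⟨g, -, h2⟩ := SetLike.not_le_iff_exists.mp fun e : ⊤ ≤ normalizer ((S : Subgroup G) : Set G) =>
    h1 (normalizer_eq_top_iff.mp (eq_top_iff.mpr e))
  have h3 := (le_inf (Core.pCore_le_sylow S) (Core.pCore_le_sylow (g • S))).trans
    (h S _ fun e => h2 (Sylow.smul_eq_iff_mem_normalizer.mp e.symm))
  refine ⟨le_centralizer_iff_isMulCommutative.mp (h3.trans (centralizer_le (Core.pCore_le_sylow S))), ?_⟩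
  by_contra! hc
  have h4 := fstar_eq_pCore_iff.mp (fstar_eq_pCore_iff'.mpr ⟨layer_eq_bot_iff.mpr hc, hO⟩)
  exact hS (le_centralizer_iff_isMulCommutative.mp (((le_centralizer_iff.mp h3).trans h4).trans h3))

end CfsgLib.SylInt
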