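import Mathlib
import Cfsg.Agent.Lib.SylInt.CI1
import Cfsg.Agent.Lib.LieMult.SUMult
import Cfsg.Agent.Lib.Stein.TypeA
import Cfsg.Agent.Lib.PLen.Basic
import Cfsg.Agent.S2111

/-! Groups with central Sylow 2-intersections (S3181). -/

set_option autoImplicit false
set_option linter.unusedSectionVars false

namespace CfsgLib.SylInt

open Subgroup Cfsg CfsgLib.PComp CfsgLib.Abel2 CfsgLib.Tech CfsgLib.Gold CfsgLib.Comp CfsgLib.Gold.Cor
open scoped commutatorElement MatrixGroups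

universe u

theorem lift_cases {E Y K : Type*} [Group E] [Finite E] [Group Y] [Group K] (hp : commutator E = ⊤)
    (hE : HasCyclicSchurMultiplier E 1) {σ : E →* Y} (hσ : Function.Surjective σ) {p : ℕ} (hpp : p.Prime)
    (hk : Nat.card σ.ker ∣ p) {ξ : K →* Y} (hξ : IsStemExtension ξ) : ξ.ker = ⊥ ∨ Nonempty (K ≃* E) := by
  have : Group.IsPerfect E := ⟨hp⟩
  obtain ⟨η, hη⟩ := Schur.exists_lift_of_trivial_mult hE σ (Schur.centralExt_of_stem hξ)
  have h1 := Schur.surjective_of_lift hσ hξ η hη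
  have h2 : η.ker ≤ σ.ker := fun x hx => by
    rw [← hη, MonoidHom.mem_ker, MonoidHom.comp_apply, MonoidHom.mem_ker.mp hx, map_one]
  rcases (Nat.dvd_prime hpp).mp ((card_dvd_of_le h2).trans hk) with e | e
  · exact Or.inr ⟨(MulEquiv.ofBijective η ⟨(MonoidHom.ker_eq_bot_iff η).mp (card_eq_one.mp e), h1⟩).symm⟩
  · refine Or.inl (eq_bot_iff.mpr fun x hx => ?_)
    obtain ⟨x, rfl⟩ := h1 x
    exact (eq_of_le_of_card_ge h2 (e ▸ Nat.le_of_dvd hpp.pos hk)).ge (hη ▸ hx)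

theorem ker_eq_bot_of_trivial {E K : Type*} [Group E] [Group K] (hp : commutator E = ⊤)
    (hE : HasCyclicSchurMultiplier E 1) {ξ : K →* E} (hξ : IsStemExtension ξ) : ξ.ker = ⊥ := by
  have : Group.IsPerfect E := ⟨hp⟩
  obtain ⟨η, hη⟩ := Schur.exists_lift_of_trivial_mult hE (MonoidHom.id E) (Schur.centralExt_of_stem hξ)
  exact Schur.ker_eq_bot_of_section hξ η hη

theorem IsStemExtension.comp_equiv {K Y Y' : Type*} [Group K] [Group Y] [Group Y'] {ξ : K →* Y}
    (h : IsStemExtension ξ) (e : Y ≃* Y') : IsStemExtension (e.toMonoidHom.comp ξ) ∧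
      (e.toMonoidHom.comp ξ).ker = ξ.ker :=
  have hk : (e.toMonoidHom.comp ξ).ker = ξ.ker := MonoidHom.ker_mulEquiv_comp _ e
  ⟨⟨e.surjective.comp h.1, hk ▸ h.2.1, hk ▸ h.2.2⟩, hk⟩

variable {G : Type u} [Group G] [Finite G] {L : Subgroup G}

theorem relIndex_le_four {Y : Type*} [Group Y] [Finite Y] {S F : Subgroup G} (hS : IsPGroup 2 S) (f : G →* Y)
    (hk : ∀ s ∈ S, f s = 1 → s ∈ F) (h2 : ∀ s ∈ S, s * s ∈ F) (h : ¬ Four (S.map f)) : F.relIndex S ≤ 4 := by
  obtain ⟨a, ha, b, hb, h3⟩ : ∃ a ∈ S, ∃ b ∈ S, ∀ s ∈ S, ∃ i : ℤ, f s = f a ^ i ∨ f s = f a ^ i * f b := by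
    by_cases hc : IsCyclic (S.map f)
    · obtain ⟨⟨_, a, ha, rfl⟩, h3⟩ := hc.exists_generator
      refine ⟨a, ha, 1, one_mem _, fun s hs => ?_⟩
      obtain ⟨i, e⟩ := h3 ⟨_, mem_map_of_mem f hs⟩
      exact ⟨i, Or.inl (congrArg Subtype.val e).symm⟩
    · obtain ⟨_, _, hq⟩ := exists_qg (hS.map f) h hc
      obtain ⟨a, ha, rfl⟩ := hq.ha
      obtain ⟨b, hb, rfl⟩ := hq.hb
      exact ⟨a, ha, b, hb, fun s hs => hq.all _ (mem_map_of_mem f hs)⟩
  have key : ∀ s ∈ S, ∀ c ∈ S, ∀ i j : ℤ, f s = f a ^ (j + 2 * i) * f c → (a ^ j * c)⁻¹ * s ∈ F :=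
    fun s hs c hc i j e => by
      have h4 := mul_mem (mul_mem (inv_mem hc) (zpow_mem ha i)) hc
      have h5 := hk _ (mul_mem (inv_mem (mul_mem h4 h4)) (mul_mem (inv_mem (mul_mem (zpow_mem ha j) hc)) hs))
        (by simp only [map_mul, map_inv, map_zpow, e]; group)
      exact (mul_mem_cancel_left (inv_mem (h2 _ h4))).mp h5
  refine le_of_le_of_eq (Nat.card_le_card_of_surjective (fun x : Fin 2 × Fin 2 => ((⟨a ^ (x.1 : ℤ) * b ^ (x.2 : ℕ),
    mul_mem (zpow_mem ha _) (pow_mem hb _)⟩ : S) : S ⧸ F.subgroupOf S)) fun y => ?_) (by simp)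
  obtain ⟨⟨s, hs⟩, rfl⟩ := QuotientGroup.mk_surjective y
  obtain ⟨i, h4⟩ := h3 s hs
  rcases Int.even_or_odd' i with ⟨k, rfl | rfl⟩ <;> rcases h4 with e | e
  exacts [⟨(0, 0), QuotientGroup.eq.mpr (key s hs _ (pow_mem hb _) k _ (by simpa using e))⟩,
    ⟨(0, 1), QuotientGroup.eq.mpr (key s hs _ (pow_mem hb _) k _ (by simpa using e))⟩,
    ⟨(1, 0), QuotientGroup.eq.mpr (key s hs _ (pow_mem hb _) k _ (by simpa [add_comm] using e))⟩,
    ⟨(1, 1), QuotientGroup.eq.mpr (key s hs _ (pow_mem hb _) k _ (by simpa [add_comm] using e))⟩]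

/-- a 2-group with a large elementary quotient whose noncentral elements have small centralizers -/
theorem le_cent_of_noncentral {S F O : Subgroup G} (hS : IsPGroup 2 S) (hO : Odd (Nat.card O))
    (hn : S ≤ normalizer (O : Set G)) (h1 : S ⊓ centralizer (S : Set G) ≤ F) (h2 : ∀ s ∈ S, s * s ∈ F)
    (h3 : 4 < F.relIndex S) (h4 : ∀ x ∈ S, x ∉ centralizer (S : Set G) →
      O ⊓ centralizer {x} ≤ centralizer (S : Set G)) : O ≤ centralizer (S : Set G) := by
  suffices ∀ N : Subgroup G, N ≤ O → S ≤ normalizer (N : Set G) → N ≤ centralizer (S : Set G) from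
    this O le_rfl hn
  intro N
  induction N using WellFoundedLT.induction with | ind N ih => ?_
  intro hN hSN
  by_contra hne
  have h5 : ∀ x ∈ S, x ∉ centralizer (N : Set G) → N ⊓ centralizer {x} ≤ centralizer (S : Set G) :=
    fun x hx hxN => by
      by_cases e : x ∈ centralizer (S : Set G)
      · exact ih _ (lt_of_le_of_ne inf_le_left fun e1 => hxN (le_cent_single.mp (e1.ge.trans inf_le_right)))
          (inf_le_left.trans hN) (Coprime.le_normalizer_inf hSN ((le_cent_single.mpr e).trans le_normalizer))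
      · exact (inf_le_inf_right _ hN).trans (h4 x hx e)
  have h6 : S ⊓ centralizer (N : Set G) ≤ centralizer (S : Set G) := fun x hx => by_contra fun e =>
    hne ((le_inf hN (le_cent_single.mpr hx.2)).trans (h4 x hx.1 e))
  -- pass to `X / K`
  set K := S ⊓ centralizer (N : Set G)
  set X := centralizer (K : Set G)
  have hSX : S ≤ X := le_centralizer_iff.mp h6
  have hNX : N ≤ X := le_centralizer_iff.mp inf_le_right
  have : (K.subgroupOf X).Normal := normal_subgroupOf_of_le_normalizer (centralizer_le_normalizer _)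
  let π := QuotientGroup.mk' (K.subgroupOf X)
  have hπ : ∀ x : X, π x = 1 ↔ (x : G) ∈ K := fun x => QuotientGroup.eq_one_iff x
  have hNK : ∀ x ∈ N, x ∈ K → x = 1 := fun x hx e =>
    eq_one_of_odd_of_mem hS e.1 (Gold.odd_orderOf_of_mem hO (hN hx))
  obtain ⟨_, ⟨a, ha, rfl⟩, _, ⟨b, hb, rfl⟩, a2, b2, ab, a1, b1, hab⟩ : Four ((S.subgroupOf X).map π) :=
    by_contra fun e => h3.not_ge ((relIndex_subgroupOf hSX).symm.trans_le (relIndex_le_four hS.comap_subtype π
      (fun s hs e => h1 ⟨hs, h6 ((hπ s).mp e)⟩) (fun s hs => h2 s hs) e))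
  have hm := Invol.mem_closure_pair_of_commute a2 b2 ab
  have hE : closure {π a, π b} ≤ (S.subgroupOf X).map π := (closure_le _).mpr (by
    rintro _ (rfl | rfl)
    exacts [mem_map_of_mem π ha, mem_map_of_mem π hb])
  have h7 := le_of_cent1 (E := closure {π a, π b}) (X := (N.subgroupOf X).map π)
    (H := ((N ⊓ centralizer (S : Set G)).subgroupOf X).map π) (fun e he => by
      rcases (hm e).mp he with rfl | rfl | rfl | rfl
      exacts [one_mul 1, a2, b2, Invol.mul_mul_self_of_commute a2 b2 ab])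
    (Invol.card_closure_pair_of_commute (orderOf_two_of_mul_self a2 a1) (orderOf_two_of_mul_self b2 b1) hab
      ab).ge (Odd.of_dvd_nat (odd_of_le hO hN) ((card_map_dvd _ π).trans
        (Nat.card_congr (subgroupOfEquivOfLe hNX).toEquiv).dvd))
    (hE.trans ((map_mono (K := S.subgroupOf X) fun s hs => mem_normalizer_of_forall (H := N.subgroupOf X)
      fun n hn' => conj_mem_of_mem_normalizer (H := N) (hSN hs) hn').trans (le_normalizer_map π))) fun e he e1 => by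
      obtain ⟨w, hw, rfl⟩ := hE he
      rintro _ ⟨⟨n, hn', rfl⟩, h8⟩
      refine mem_map_of_mem π ⟨hn', h5 w hw (fun e => e1 ((hπ w).mpr ⟨hw, e⟩))
        ⟨hn', mem_centralizer_singleton_iff.mpr ?_⟩⟩
      have := hNK _ (mul_mem hn' (conj_mem_of_mem_normalizer (hSN hw) (inv_mem hn')))
        ((hπ (n * (w * n⁻¹ * w⁻¹))).mp (by
          rw [map_mul, map_mul, map_mul, map_inv, map_inv, ← mul_assoc, ← mul_assoc,
            mem_centralizer_singleton_iff.mp h8]; group))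
      rwa [← mul_assoc, ← mul_assoc, mul_inv_eq_one, mul_inv_eq_iff_eq_mul] at this
  refine hne fun n hn' => ?_
  obtain ⟨m, hm1, e⟩ := h7 (mem_map_of_mem π (show (⟨n, hNX hn'⟩ : X) ∈ _ from hn'))
  have := hNK _ (mul_mem (inv_mem (mem_inf.mp hm1).1) hn') (QuotientGroup.eq.mp e : m⁻¹ * _ ∈ K.subgroupOf X)
  exact inv_mul_eq_one.mp this ▸ hm1.2

theorem exists_perfect_normal {H : Type*} [Group H] (f : G →* H) {L : Subgroup H} (hL : ⁅L, L⁆ = L)
    (K : Subgroup G) (hK : K.Normal) (h : K.map f = L) :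
    ∃ M ≤ K, M.Normal ∧ ⁅M, M⁆ = M ∧ M.map f = L := by
  induction K using WellFoundedLT.induction with | ind K ih => ?_
  by_cases e : ⁅K, K⁆ = K
  · exact ⟨K, le_rfl, hK, e, h⟩
  · obtain ⟨M, h1, h2⟩ := ih _ (lt_of_le_of_ne (commutator_le_right K K) e) inferInstance
      (by rw [map_commutator, h, hL])
    exact ⟨M, h1.trans (commutator_le_right K K), h2⟩

theorem commutator_eq_top_of_perfect {M : Subgroup G} (h : ⁅M, M⁆ = M) : commutator M = ⊤ := by
  rw [← map_subtype_inj, map_subtype_commutator, h, ← MonoidHom.range_eq_map, range_subtype]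

section quot

variable (hA : All.{u}) (h : CI G) {L : Subgroup (G ⧸ pPrimeCore 2 G)} (hL : IsComponent L)
  (hS : ∀ S : Sylow 2 (G ⧸ pPrimeCore 2 G), ¬ IsMulCommutative (S : Subgroup (G ⧸ pPrimeCore 2 G)))
include hA h hL hS

theorem ci_le_cent (hab : ¬ Ab2 (Lt L)) (S : Sylow 2 G) :
    (S : Subgroup G) ≤ centralizer (pPrimeCore 2 G : Set G) := by
  have hπ := QuotientGroup.mk'_surjective (pPrimeCore 2 G)
  have hO := Core.pPrimeCore_quotient_pPrimeCore 2 G
  have hq := h.of_surjective hπ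
  have := ci_normal hO hL hq hA hS
  have hs := (comp_top hO hL).1
  have hB := (bList_of_ti hA.ben (comp_top hO hL).2 (ci_ti hO hL hq hA hS)).2
  have hP := sylow_inf_normal (S.mapSurjective hπ) L
  have hN : ∀ g, g ∈ normalizer (L : Set (G ⧸ pPrimeCore 2 G)) := fun g => normalizer_eq_top L ▸ mem_top g
  let Φ : G →* MulAut (Lt L) := (tact L).comp ((QuotientGroup.mk' _).codRestrict _ fun g => hN _)
  have hinj := conj_inj (comp_pqs hO hL)
  have h1 : ∀ s ∈ (S : Subgroup G), ∃ t ∈ (tSyl hP : Subgroup (Lt L)), Φ s = MulAut.conj t := fun s hs => by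
    obtain ⟨p, hp, e⟩ := ci_dec hO hL hq hA hS (S.mapSurjective hπ) (mem_map_of_mem _ hs)
    exact ⟨tp L ⟨p, hp.2⟩, tp_mem_tb hp, (tact_eq_conj_iff (comp_pqs hO hL) (hN _) _).mpr
      (comp_cbar hO hL ▸ pCore_le_cent hO hL e)⟩
  have h2 : ∀ t ∈ (tSyl hP : Subgroup (Lt L)), ∃ s ∈ (S : Subgroup G), Φ s = MulAut.conj t := by
    rintro _ ⟨⟨_, hp⟩, ⟨⟨s, hs, rfl⟩, -⟩, rfl⟩
    exact ⟨s, hs, tact_of_mem hp⟩
  refine le_centralizer_iff.mp (le_cent_of_noncentral (F := ((omegaOne 2 (tSyl hP : Subgroup (Lt L))).map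
    MulAut.conj).comap Φ) S.isPGroup' (Core.odd_card_oddCore G) (normalizer_eq_top (pPrimeCore 2 G) ▸ le_top)
    (fun z hz => ?_) (fun s hs => ?_) ?_ fun x hx e => ?_)
  · obtain ⟨t, ht, e⟩ := h1 z hz.1
    refine ⟨t, hB.center_eq _ ▸ ⟨ht, fun y hy => hinj ?_⟩, e.symm⟩
    obtain ⟨s, hs, e1⟩ := h2 y hy
    rw [map_mul, map_mul, ← e, ← e1, ← map_mul, ← map_mul, hz.2 s hs]
  · obtain ⟨t, ht, e⟩ := h1 s hs
    exact ⟨t * t, hB.sq_mem _ ht, by rw [map_mul, map_mul, e]⟩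
  · obtain ⟨x, hx, h3⟩ : ∃ x ∈ (tSyl hP : Subgroup (Lt L)), x * x ≠ 1 := by
      by_contra! e
      exact hab (ab2_of_sylow _ (comm_of_elem e))
    obtain ⟨W, -, h4, -, h5, -⟩ := hB.three _ x hx h3
    have h6 := card_mul_relIndex' fun v hv => ((hB.mem_omega (tSyl hP)).mp hv).1
    have h7 := Nat.le_of_mul_le_mul_left
      ((mul_comm _ 8).trans_le ((h5.trans (card_le_of_le h4)).trans h6.ge)) Nat.card_pos
    rw [relIndex_comap, show (S : Subgroup G).map Φ = (tSyl hP : Subgroup (Lt L)).map MulAut.conj from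
      le_antisymm (by
        rintro _ ⟨s, hs, rfl⟩
        obtain ⟨t, ht, e⟩ := h1 s hs
        exact ⟨t, ht, e.symm⟩) (by
        rintro _ ⟨t, ht, rfl⟩
        exact h2 t ht), relIndex_map_map_of_injective _ _ hinj]
    omega
  · exact (inf_le_inf_left _ (centralizer_zpowers x ▸ (centralizer_le_normalizer _).trans
      (h.uniq (zpowers_le.mpr hx) fun e1 => e (zpowers_le.mp e1)).normalizer_le)).trans
      (le_centralizer_iff.mp (le_centralizer_of_isPGroup_of_coprime S.isPGroup'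
        ((Core.coprime_card_pPrimeCore 2 G).coprime_dvd_left (card_dvd_of_le inf_le_left))
        (Coprime.le_normalizer_inf (normalizer_eq_top (pPrimeCore 2 G) ▸ le_top)
          (le_normalizer.trans le_normalizer)) inf_le_right))

theorem ci_lift (hab : ¬ Ab2 (Lt L)) : ∃ (K : Subgroup G) (ξ : K →* Lt L), K.Normal ∧ ⁅K, K⁆ = K ∧
    IsStemExtension ξ ∧ ξ.ker = center K ∧ Odd (pCore 2 G ⊔ K).index ∧
      pCore 2 G ≤ centralizer (K : Set G) := by
  have hπ := QuotientGroup.mk'_surjective (pPrimeCore 2 G)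
  have hO := Core.pPrimeCore_quotient_pPrimeCore 2 G
  have hq := h.of_surjective hπ
  have := ci_normal hO hL hq hA hS
  obtain ⟨S⟩ : Nonempty (Sylow 2 G) := inferInstance
  have h1 := ci_le_cent hA h hL hS hab S
  have hP := sylow_inf_normal (S.mapSurjective hπ) L
  obtain ⟨K, h2, h3, h4, h5⟩ := exists_perfect_normal (QuotientGroup.mk' (pPrimeCore 2 G)) (comp_perfect hL)
    (centralizer (pPrimeCore 2 G : Set G) ⊓ L.comap (QuotientGroup.mk' _)) inferInstance (by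
      refine (qs_sub_normal hL.2 (map_le_iff_le_comap.mpr inf_le_right) (le_top.trans
        (normalizer_eq_top_iff.mpr (Normal.map inferInstance _ hπ)).ge)).resolve_right fun e => ?_
      obtain ⟨_, ⟨⟨s, hs, rfl⟩, h2⟩, h3⟩ := comp_exists_not_cent hO hL hP
      exact h3 (e (mem_map_of_mem _ ⟨h1 hs, h2⟩)))
  have h6 : ∀ U : Subgroup G, U.map (QuotientGroup.mk' (pPrimeCore 2 G)) ≤ centralizer (L : Set _) →
      ⁅U, K⁆ ≤ pPrimeCore 2 G := fun U hU => by
    rw [← QuotientGroup.ker_mk' (pPrimeCore 2 G), ← Subgroup.map_eq_bot_iff, map_commutator, h5,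
      commutator_eq_bot_iff_le_centralizer]
    exact hU
  let g : K →* L := ((QuotientGroup.mk' _).comp K.subtype).codRestrict L fun x => h5 ▸ mem_map_of_mem _ x.2
  have hg : Function.Surjective ((tp L).comp g) := (tp_surjective L).comp fun y => by
    obtain ⟨x, hx, e⟩ := h5.ge y.2
    exact ⟨⟨x, hx⟩, Subtype.ext e⟩
  have hk : ((tp L).comp g).ker = center K := by
    have := (comp_top hO hL).1
    refine le_antisymm (fun x hx => ?_) fun x hx => ?_
    · have := commutator_eq_bot_of_perfect h4 (U := zpowers (x : G)) (by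
        rw [commutator_eq_bot_iff_le_centralizer]
        refine (h6 _ ?_).trans (le_centralizer_iff.mp (h2.trans inf_le_left))
        rw [MonoidHom.map_zpowers, zpowers_le]
        exact (comp_tp_eq_one hO hL).mp hx)
      rw [commutator_comm, commutator_eq_bot_iff_le_centralizer, zpowers_le] at this
      rwa [center_eq_subgroupOf_centralizer]
    · exact mem_bot.mp (center_eq_bot_of_simple (comp_top hO hL).2 ▸
        map_center_le_of_surjective _ hg (mem_map_of_mem _ hx))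
  refine ⟨K, _, h3, h4, ⟨hg, hk.le, commutator_eq_top_of_perfect h4 ▸ le_top⟩, hk, ?_, ?_⟩
  · have h7 : (L ⊔ pCore 2 _).comap (QuotientGroup.mk' _) = (pCore 2 G ⊔ K) ⊔ pPrimeCore 2 G := by
      rw [← comap_sup_eq _ _ _ hπ, comap_pCore_of_cent S h1, ← h5, comap_map_eq, QuotientGroup.ker_mk']
      ac_nf
    rw [← relIndex_mul_index (le_sup_left : pCore 2 G ⊔ K ≤ (pCore 2 G ⊔ K) ⊔ pPrimeCore 2 G),
      relIndex_sup_left, ← h7, index_comap_of_surjective _ hπ]
    refine Odd.mul (Odd.of_dvd_nat (Core.odd_card_oddCore G) (relIndex_dvd_card _ _))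
      (odd_index_of_le (S.mapSurjective hπ) fun s hs => ?_)
    obtain ⟨p, hp, e⟩ := ci_dec hO hL hq hA hS _ hs
    exact mul_inv_cancel_left p s ▸ mul_mem_sup hp.2 e
  · rw [← commutator_eq_bot_iff_le_centralizer, eq_bot_iff, ← Core.pCore_inf_pPrimeCore (p := 2)]
    exact le_inf (commutator_le_left _ _) (h6 _ ((Core.map_pCore_le hπ).trans (pCore_le_cent hO hL)))

theorem ci_sl25 (hab : Ab2 (Lt L)) : Nonempty (L ≃* SL(2, ZMod 5)) := by
  have hπ := QuotientGroup.mk'_surjective (pPrimeCore 2 G)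
  have hO := Core.pPrimeCore_quotient_pPrimeCore 2 G
  have hq := h.of_surjective hπ
  obtain ⟨hs, hn⟩ := comp_top hO hL
  obtain ⟨P, hP⟩ := exists_isSylowIn 2 L
  have hξ : IsStemExtension (tp L) := ⟨tp_surjective L, comp_ker_le hO hL,
    commutator_eq_top_of_perfect (comp_perfect hL) ▸ le_top⟩
  have h1 : (tp L).ker ≠ ⊥ := fun e => ci_not_comm hO hL hq hA hS hP fun x hx y hy => congrArg Subtype.val
    ((MonoidHom.ker_eq_bot_iff _).mp e (a₁ := ⟨y, hP.le hy⟩ * ⟨x, hP.le hx⟩)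
      (a₂ := ⟨x, hP.le hx⟩ * ⟨y, hP.le hy⟩) (by
        rw [map_mul, map_mul]
        exact mul_comm_of_comm (hab (tSyl hP)) (tp_mem_tb hy) (tp_mem_tb hx)))
  have key : ∀ (F : Type) [Field F] [Fintype F], 4 < Fintype.card F → Fintype.card F ≠ 9 →
      Nat.card (center SL(2, F)) ∣ 2 → (Lt L ≃* PSL(2, F)) → Nonempty (L ≃* SL(2, F)) :=
    fun F _ _ h4 h9 h2 e => by
      obtain ⟨a, ha, ha2⟩ := Classical.sl_exists_sq_ne_one (F := F) (by simpa using h4.le)
      obtain ⟨h5, h6⟩ := IsStemExtension.comp_equiv hξ e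
      exact (lift_cases (Classical.sl_commutator_eq_top_of_sq_ne_one ha ha2) (Stein.trivial_mult_SL2 h4.ne' h9)
        (QuotientGroup.mk'_surjective _) Nat.prime_two (by rwa [QuotientGroup.ker_mk']) h5).resolve_left
        (h6 ▸ h1)
  rcases l2Even_cases (hA.ab.se _ hs hn hab _ ((ci_ti hO hL hq hA hS).se hn (tSyl hP))) with
    ⟨F, _, _, hF, ⟨e⟩⟩ | ⟨F, _, _, n, h3, hF, ⟨e⟩⟩
  · obtain ⟨e1⟩ := key F (by omega) (by omega) (SL2.card_center_odd (Classical.sl_two_ne_zero_of_odd_card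
      (by rw [hF]; decide))).dvd e
    obtain ⟨e2⟩ := nonempty_sl_five hF
    exact ⟨e1.trans e2⟩
  · have h4 : Even (Fintype.card F) := hF ▸ (Nat.even_pow.mpr ⟨even_two, by omega⟩)
    have h5 : ringChar F = 2 := FiniteField.even_card_iff_char_two.2 (Nat.even_iff.1 h4)
    have h6 := SL2.center_eq_bot_of_two
      (by exact_mod_cast (h5 ▸ ringChar.Nat.cast_ringChar : ((2 : ℕ) : F) = 0) : (2 : F) = 0)
    obtain ⟨e1⟩ := key F (hF ▸ (by norm_num : 4 < 2 ^ 3).trans_le (Nat.pow_le_pow_right two_pos h3))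
      (fun e => by rw [e] at h4; exact absurd h4 (by decide)) (by simp [h6]) e
    refine absurd (eq_bot_iff.mpr ((comp_ker_le hO hL).trans ?_)) h1
    rw [← map_center_of_mulEquiv e1.symm, h6, Subgroup.map_bot]

end quot

theorem s3181 (hA : All.{u}) (hCI : ∀ S T : Sylow 2 G, S ≠ T → ∃ U : Sylow 2 G,
      (S : Subgroup G) ⊓ (T : Subgroup G) ≤ (center ↥(U : Subgroup G)).map (U : Subgroup G).subtype) :
    (Group.IsSolvable G ∧ PLengthLE 2 1 G) ∨
    (∀ S : Sylow 2 G, IsMulCommutative ↥(S : Subgroup G)) ∨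
    (∃ (N M : Subgroup G) (_ : N.Normal) (_ : M.Normal) (_ : (N.subgroupOf M).Normal), N < M ∧
      Odd (Nat.card ↥N) ∧ Odd M.index ∧
      ∃ A L : Subgroup (↥M ⧸ N.subgroupOf M), IsMulCommutative ↥A ∧ IsPGroup 2 ↥A ∧
        Nonempty (↥L ≃* SL(2, ZMod 5)) ∧ (∀ a ∈ A, ∀ l ∈ L, a * l = l * a) ∧ A ⊔ L = ⊤) ∨
    (∃ (M : Subgroup G), M.Normal ∧ Odd M.index ∧ ∃ A L : Subgroup G, IsMulCommutative ↥A ∧ IsPGroup 2 ↥A ∧
      ((IsInternalDirectProduct A L M ∧
          ((∃ (m : ℕ) (F : Type) (_ : Field F) (_ : Fintype F), 1 ≤ m ∧ Fintype.card F = 2 ^ (2 * m + 1) ∧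
              Nonempty (↥L ≃* ↥(Lie.Sz F (2 ^ (m + 1))))) ∨
            (∃ (n : ℕ) (F : Type) (_ : Field F) (_ : Fintype F), 2 ≤ n ∧ Fintype.card F = 4 ^ n ∧
              (Nonempty (↥L ≃* PSU 3 F (2 ^ n)) ∨ Nonempty (↥L ≃* ↥(SU 3 F (2 ^ n))))))) ∨
        (A ≤ M ∧ L ≤ M ∧ (∀ a ∈ A, ∀ l ∈ L, a * l = l * a) ∧ A ⊔ L = M ∧ Group.IsPerfect ↥L ∧
          center ↥L ≠ ⊥ ∧ ∃ (F : Type) (_ : Field F) (_ : Fintype F), Fintype.card F = 8 ∧
            Nonempty (↥L ⧸ center ↥L ≃* ↥(Lie.Sz F 4))))) := by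
  have h := ci_of hCI
  have hπ := QuotientGroup.mk'_surjective (pPrimeCore 2 G)
  have hO := Core.pPrimeCore_quotient_pPrimeCore 2 G
  have hq := h.of_surjective hπ
  obtain ⟨S⟩ : Nonempty (Sylow 2 G) := inferInstance
  by_cases h1 : ((S.mapSurjective hπ : Sylow 2 _) : Subgroup (G ⧸ pPrimeCore 2 G)).Normal
  · exact Or.inl ⟨CIT.App.isSolvable_of_normal_of_quotient _ (FT.odd_subgroup_solvable (Core.odd_card_oddCore G))
      (isSolvable_of_normal_sylow _ h1), PLen.plen_one_of_sylow_le S (map_le_iff_le_comap.mp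
        (Core.pCore_eq_sylow_of_normal (S.mapSurjective hπ)).ge)⟩
  by_cases h2 : Ab2 G
  · exact Or.inr (Or.inl h2)
  have hS : ∀ R : Sylow 2 (G ⧸ pPrimeCore 2 G), ¬ IsMulCommutative (R : Subgroup (G ⧸ pPrimeCore 2 G)) :=
    fun R hR => h2 (ab2_of_sylow S (le_centralizer_iff_isMulCommutative.mp fun x hx y hy =>
      mul_inv_eq_one.mp (eq_one_of_mem_core S.isPGroup' (mul_mem (mul_mem hy hx) (inv_mem (mul_mem hx hy))) (by
        rw [map_mul, map_inv, map_mul, map_mul, mul_inv_eq_one]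
        exact mul_comm_of_comm (ab2_of_sylow R hR (S.mapSurjective hπ)) (mem_map_of_mem _ hy)
          (mem_map_of_mem _ hx)))))
  obtain ⟨hQ, L, hL⟩ := ci_exists_comp hO hq h1 (hS _)
  have := ci_normal hO hL hq hA hS
  refine Or.inr (Or.inr ?_)
  by_cases hab : Ab2 (Lt L)
  · obtain ⟨e1⟩ := ci_sl25 hA h hL hS hab
    obtain ⟨e⟩ := GW.Cor.nonempty_quot_comap (pPrimeCore 2 G) (L ⊔ pCore 2 _)
    refine Or.inl ⟨pPrimeCore 2 G, (L ⊔ pCore 2 _).comap (QuotientGroup.mk' _), inferInstance, inferInstance,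
      inferInstance, lt_of_le_of_ne (QuotientGroup.le_comap_mk' _ _) fun e2 => comp_ne_bot hL ?_,
      Core.odd_card_oddCore G, ?_, ((pCore 2 _).subgroupOf _).map e.symm.toMonoidHom,
      (L.subgroupOf _).map e.symm.toMonoidHom, comm_map inferInstance _,
      (Core.isPGroup_pCore 2 _).comap_subtype.map _, ⟨((L.subgroupOf _).equivMapOfInjective _
        e.symm.injective).symm.trans ((subgroupOfEquivOfLe le_sup_left).trans e1)⟩, ?_, ?_⟩
    · rw [eq_bot_iff, ← QuotientGroup.map_mk'_self (pPrimeCore 2 G)]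
      exact (le_sup_left.trans (map_comap_eq_self_of_surjective hπ _).ge).trans (map_mono e2.ge)
    · rw [index_comap_of_surjective _ hπ]
      refine odd_index_of_le (S.mapSurjective hπ) fun s hs => ?_
      obtain ⟨p, hp, e⟩ := ci_dec hO hL hq hA hS _ hs
      exact mul_inv_cancel_left p s ▸ mul_mem_sup hp.2 e
    · rintro _ ⟨a, ha, rfl⟩ _ ⟨l, hl, rfl⟩
      rw [← map_mul, ← map_mul]
      exact congrArg _ (Subtype.ext (pCore_le_cent hO hL ha _ hl).symm)
    · rw [← Subgroup.map_sup, ← subgroupOf_sup le_sup_right le_sup_left,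
        subgroupOf_eq_top.mpr (sup_comm _ _).le]
      exact map_top_of_surjective _ e.symm.surjective
  obtain ⟨K, ξ, h3, h4, h5, h6, h7, h8⟩ := ci_lift hA h hL hS hab
  have h9 : IsMulCommutative (pCore 2 G) := le_centralizer_iff_isMulCommutative.mp fun x hx y hy =>
    mul_inv_eq_one.mp (eq_one_of_mem_core (Core.isPGroup_pCore 2 G)
      (mul_mem (mul_mem hy hx) (inv_mem (mul_mem hx hy))) (by
        rw [map_mul, map_inv, map_mul, map_mul, mul_inv_eq_one]
        exact mul_comm_of_comm hQ (Core.map_pCore_le hπ (mem_map_of_mem _ hy))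
          (Core.map_pCore_le hπ (mem_map_of_mem _ hx))))
  refine Or.inr ⟨pCore 2 G ⊔ K, inferInstance, h7, pCore 2 G, K, h9, Core.isPGroup_pCore 2 G, ?_⟩
  have hc : ∀ a ∈ pCore 2 G, ∀ l ∈ K, a * l = l * a := fun a ha l hl => (h8 ha l hl).symm
  have hd : Odd (Nat.card (center K)) → IsInternalDirectProduct (pCore 2 G) K (pCore 2 G ⊔ K) := fun ho =>
    ⟨le_sup_left, le_sup_right, hc, eq_bot_iff.mpr fun x hx => eq_one_of_odd_of_mem (Core.isPGroup_pCore 2 G)
      hx.1 ((orderOf_coe (⟨x, hx.2⟩ : K)).symm ▸ Gold.odd_orderOf_of_mem ho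
        (mem_center_iff.mpr fun y => Subtype.ext (h8 hx.1 y y.2))), rfl⟩
  have he : ξ.ker = ⊥ → Odd (Nat.card (center K)) ∧ Nonempty (K ≃* Lt L) := fun e =>
    ⟨by simp [← h6, e], ⟨MulEquiv.ofBijective ξ ⟨(MonoidHom.ker_eq_bot_iff ξ).mp e, h5.1⟩⟩⟩
  obtain ⟨hs, hn⟩ := comp_top hO hL
  rcases (bList_of_ti hA.ben hn (ci_ti hO hL hq hA hS)).1 with
    ⟨n, F, _, _, h10, hF, ⟨e⟩⟩ | ⟨m, F, _, _, h10, hF, ⟨e⟩⟩ | ⟨n, F, _, _, h10, hF, ⟨e⟩⟩
  · have h11 : ringChar F = 2 := FiniteField.even_card_iff_char_two.2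
      (Nat.even_iff.1 (hF ▸ (Nat.even_pow.mpr ⟨even_two, by omega⟩)))
    exact absurd (good_of_isPSLEven ⟨F, _, _, ringChar.of_eq h11,
      hF ▸ Nat.pow_le_pow_right (n := 2) two_pos h10, ⟨e⟩⟩).ab2 hab
  · by_cases e1 : ξ.ker = ⊥
    · obtain ⟨h11, ⟨e2⟩⟩ := he e1
      exact Or.inl ⟨hd h11, Or.inl ⟨m, F, _, _, h10, hF, ⟨e2.trans e⟩⟩⟩
    obtain ⟨h11, h12⟩ := IsStemExtension.comp_equiv h5 e
    obtain rfl : m = 1 := by_contra fun e2 => e1 (h12 ▸ ker_eq_bot_of_trivial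
      (GW.Cor.commutator_eq_top_of_surjective h11.1 (commutator_eq_top_of_perfect h4))
      (Cfsg.Agent.S2111.result (by omega) hF) h11)
    exact Or.inr ⟨le_sup_left, le_sup_right, hc, rfl, ⟨commutator_eq_top_of_perfect h4⟩, h6 ▸ e1, F, _, _, hF,
      ⟨(QuotientGroup.quotientMulEquivOfEq h6.symm).trans
        ((QuotientGroup.quotientKerEquivOfSurjective ξ h5.1).trans e)⟩⟩
  · obtain ⟨h11, h12⟩ := IsStemExtension.comp_equiv h5 e
    have hF' : Fintype.card F = (2 ^ n) ^ 2 := by rw [hF, ← pow_mul, mul_comm, pow_mul]; norm_num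
    have h13 : 4 ≤ 2 ^ n := Nat.pow_le_pow_right (n := 2) two_pos h10
    have h14 := Unitary.card_center_SU (n := 3) hF' (by norm_num)
    have h15 : Nat.card (center (SU 3 F (2 ^ n))) ∣ 3 := h14 ▸ Nat.gcd_dvd_left _ _
    rcases lift_cases (Unitary.su_commutator_eq_top hF' le_rfl (by omega))
      (LieMult.trivial_mult_SU hF' le_rfl (by omega) (by simp)) (QuotientGroup.mk'_surjective _) Nat.prime_three
      (by rwa [QuotientGroup.ker_mk']) h11 with e1 | ⟨⟨e1⟩⟩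
    · obtain ⟨h16, ⟨e2⟩⟩ := he (h12 ▸ e1)
      exact Or.inl ⟨hd h16, Or.inr ⟨n, F, _, _, h10, hF, Or.inl ⟨e2.trans e⟩⟩⟩
    · refine Or.inl ⟨hd (Odd.of_dvd_nat (by decide : Odd 3) ?_), Or.inr ⟨n, F, _, _, h10, hF, Or.inr ⟨e1⟩⟩⟩
      rwa [← map_center_of_mulEquiv e1, card_map_of_injective e1.injective] at h15

end CfsgLib.SylInt
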